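import Cfsg.Agent.H522.FldSixLib
import Cfsg.Agent.CpAut.RgdTwD4
import Cfsg.Agent.BpExc.EmbInst
import Cfsg.Agent.FastGrp
import Cfsg.Agent.Prune
set_option linter.all false
prune_inst 0x7f00000000000000000000000000000000000000000000000000000000000000000000000000000000000000000000000000000000000000000000000000000000000000000000000000000000000000003fffffffffffffffffffffffffffbeffbdffffffff
open scoped Cfsg.Agent.FastGrp

/-! Copy of a part of `BpTab.Final` (`Cfsg.Agent.BpExc.FamTw.Four`, helper66) with a small import closure; `fam` with a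
stronger conclusion. -/

section

/-!
# The automorphisms of `³D₄(q)` inside `D₄(L)` (S1332-EXC, helper66, after helper33's `FamTwSix`)

`f : K →+* L`, `|K| = q³`, `em f : ³D₄(q) → D₄(L)`, `σ = gr * fld Φ`, `Φ a = a ^ q`.
* `exists_tor` : the diagonal automorphisms are induced by elements of `T(L)^σ`;
* `exists_lift` : every automorphism is `conj y ∘ st τ`, `σ y = y`;
* `eq_one_of_comm` : the centralizer of `³D₄(q)` in `D₄(L)` is trivial.
-/

set_option autoImplicit false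
set_option linter.unusedSectionVars false
set_option maxHeartbeats 400000

namespace Cfsg.Agent.H28.FamFour

open Cfsg.Agent.BpExc Cfsg.Agent.BpExc.FamTw Cfsg.Agent.H522.FamTw

open CoxeterSystem Cfsg.Agent.ChevalleyStructure.CoxeterGeom Cfsg.Agent.Tits.Roots Cfsg.Agent.Tits.Core
  Cfsg.Agent.Tits.Exchange Cfsg.Agent.Nodes.Reps Cfsg.Agent.Nodes.BNOf Cfsg.Agent.Nodes.StabComb
  Cfsg.Agent.Nodes.Bruhat Cfsg.Agent.Nodes.OppDec Cfsg.Agent.Nodes.RGDTwGen Cfsg.Agent.Nodes.RGDChev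
  Cfsg.Agent.Nodes.RGDFold Cfsg.Agent.Nodes.RGDFoldSL
open Cfsg.Agent.KFacts.RgdOpp Cfsg.Agent.KFacts.RgdAut Cfsg.Agent.KFacts.RgdDiag Cfsg.Agent.KFacts.RgdRigid
  Cfsg.Agent.KFacts.RgdField Cfsg.Agent.KFacts.RgdTau Cfsg.Agent.KFacts.RgdNodes
open Cfsg.Lie Cfsg.Agent.ChevalleyStructure Cfsg.Agent.ChevalleyStructure.Elts Cfsg.Agent.ChevStructure.FieldMap
open Cfsg.Agent.ChevalleyStructure.SL2Hom (up lo)
open Cfsg.Agent.KFacts.TwDFour.Out
open Cfsg.Agent.Nodes.RGDTwD4 Cfsg.Agent.Nodes.RGDTwNode.D4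
open Cfsg.Agent.ParSys.Fam.D4 (hf)
open Cfsg.Agent.ChevalleyStructure.GraphSymm (symmD4a)
open Cfsg.Agent.CpAut.RgdFix Cfsg.Agent.CpAut.RgdCoh Cfsg.Agent.CpAut.RgdConj Cfsg.Agent.CpAut.RgdSub
  Cfsg.Agent.CpAut.RgdTwStd Cfsg.Agent.CpAut.RgdTwD4
open Cfsg.Agent.CpAut.RgdUntw (fld fld_coe)
open Cfsg.Agent.GpExc.Field (glMap coe_glMap)
open Cfsg.Agent.BpExc.FamTw.Gr
open Cfsg.Agent.KFacts.RgdChevCoord (TT)

universe u v

/-! ### orbits -/

section Orb

variable {D : ChevalleyDatum} (hD : InList D) {K : Type u} {L : Type v} [Field K] [Field L] (f : K →+* L)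
  (φ : K →+* K) {t : GL D.Idx L} {c : K}

theorem conj_one {r : ℕ} (h : ∀ a, t * xG hD r a * t⁻¹ = xG hD r (f c * a)) (a : K) :
    t * glMap D f (yv (xG hD) φ [r] a) * t⁻¹ = glMap D f (yv (xG hD) φ [r] (c * a)) := by
  show t * glMap D f (xG hD r a * 1) * t⁻¹ = glMap D f (xG hD r (c * a) * 1)
  rw [mul_one, mul_one, Cfsg.Agent.GpExc.Field.glMap_xG, Cfsg.Agent.GpExc.Field.glMap_xG, h, map_mul]

theorem conj_three {r s u : ℕ} (h : ∀ a, t * xG hD r a * t⁻¹ = xG hD r (f c * a))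
    (h' : ∀ a, t * xG hD s a * t⁻¹ = xG hD s (f (φ c) * a))
    (h'' : ∀ a, t * xG hD u a * t⁻¹ = xG hD u (f (φ (φ c)) * a)) (a : K) :
    t * glMap D f (yv (xG hD) φ [r, s, u] a) * t⁻¹ = glMap D f (yv (xG hD) φ [r, s, u] (c * a)) := by
  show t * glMap D f (xG hD r a * (xG hD s (φ a) * (xG hD u (φ (φ a)) * 1))) * t⁻¹ =
    glMap D f (xG hD r (c * a) * (xG hD s (φ (c * a)) * (xG hD u (φ (φ (c * a))) * 1)))
  simp only [mul_one, map_mul, Cfsg.Agent.GpExc.Field.glMap_xG]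
  rw [← h, ← h', ← h'']
  group

end Orb

section Emb

variable {K : Type u} {L : Type v} [Field K] [Field L] {q : ℕ}

theorem twisted_le_group (q : ℕ) : twistedD4 K q ≤ chevD4.group K := by
  rw [tw_le_iff]
  exact ⟨fun t _ r _ => xG_mem_group hD4 r t,
    fun t rs _ => mul_mem (xG_mem_group hD4 _ _) (mul_mem (xG_mem_group hD4 _ _) (xG_mem_group hD4 _ _))⟩

/-- **The embedding `³D₄(q) → D₄(L)`.** -/
noncomputable def em (q : ℕ) (f : K →+* L) : ↥(twistedD4 K q) →* ↥(chevD4.group L) :=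
  (Cfsg.Agent.GpExc.Field.emb hD4 f).comp (Subgroup.inclusion (twisted_le_group (K := K) q))

theorem coe_em (f : K →+* L) (g : ↥(twistedD4 K q)) :
    ((em q f g : ↥(chevD4.group L)) : GL chevD4.Idx L) = glMap chevD4 f (g : GL chevD4.Idx K) := rfl

theorem em_injective (f : K →+* L) : Function.Injective (em q f) :=
  (Cfsg.Agent.GpExc.Field.emb_injective hD4 f).comp (Subgroup.inclusion_injective _)

theorem simple_lt4 : ∀ i : Fin 4, chevD4.simple i < chevD4.nroots := by decide +kernel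

theorem simple_map4 : ∀ i : Fin 4, (symmD4a.σ ⟨chevD4.simple i, simple_lt4 i⟩).val =
    chevD4.simple ((![2, 1, 3, 0] : Fin 4 → Fin 4) i) := by decide +kernel

theorem simple_eps4 : ∀ i : Fin 4, symmD4a.ε ⟨chevD4.simple i, simple_lt4 i⟩ = 1 := by decide +kernel

theorem onSimple : OnSimple chevD4 4 symmD4a ![2, 1, 3, 0] where
  map i := ⟨simple_lt4 i, simple_map4 i, simple_eps4 i⟩
  surj := by decide

theorem gr_cube_D4 : gr (L := L) hD4 symmD4a ^ 3 = 1 :=
  gr_cube hD4 symmD4a (by decide +kernel)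

/-- `2 A⁻¹` for `D₄` -/
def B4 : Fin 4 → Fin 4 → ℤ := ![![2, 2, 1, 1], ![2, 4, 2, 2], ![1, 2, 2, 1], ![1, 2, 1, 2]]

theorem B4_mul : ∀ i k : Fin 4, ∑ j : Fin 4, B4 i j * chevD4.cartan j (chevD4.simple k) =
    if i = k then ((2 : ℕ) : ℤ) else 0 := by decide +kernel

variable {φ : K →+* K} (f : K →+* L)

/-- **The diagonal automorphisms come from `T(L)^σ`.** -/
theorem exists_tor (h3 : ∀ a, φ (φ (φ a)) = a) (hroot : ∀ a : K, ∃ b : L, b ^ 2 = f a) {Φ : L ≃+* L}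
    (hΦ : ∀ a, Φ (f a) = f (φ a))
    (c : ∀ i, KD φ i) (hc : ∀ i, c i ≠ 0) : ∃ t ∈ TT chevD4 L, gr hD4 symmD4a (fld chevD4 Φ t) = t ∧
      (∀ i (a : K), (t : GL chevD4.Idx L) * glMap chevD4 f (yv (xG hD4) φ (_root_.Cfsg.Agent.Nodes.RGDTwNode.D4.rep i :: rest i) a) *
        (t : GL chevD4.Idx L)⁻¹ = glMap chevD4 f (yv (xG hD4) φ (_root_.Cfsg.Agent.Nodes.RGDTwNode.D4.rep i :: rest i) (c i * a))) ∧
      ∀ i (a : K), (t : GL chevD4.Idx L) * glMap chevD4 f (yv (xG hD4) φ (negO i) a) *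
        (t : GL chevD4.Idx L)⁻¹ = glMap chevD4 f (yv (xG hD4) φ (negO i) ((c i : K)⁻¹ * a)) := by
  have hc' : ∀ i, (c i : K) ≠ 0 := fun i h => hc i (Subtype.ext h)
  obtain ⟨b, hb⟩ : ∃ b : Fin 4 → K, b = ![(c 1 : K), c 0, φ (c 1), φ (φ (c 1))] := ⟨_, rfl⟩
  have hb0 : ∀ i, b i ≠ 0 := by
    intro i
    rw [hb]
    fin_cases i
    · exact hc' 1
    · exact hc' 0
    · exact (map_ne_zero φ).2 (hc' 1)
    · exact (map_ne_zero φ).2 ((map_ne_zero φ).2 (hc' 1))
  obtain ⟨t, ht, hpos, hneg⟩ := Tor.exists_diag hp (F := L) (m := 2) (B := B4) B4_mul (b := fun i => f (b i))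
    (fun i => (map_ne_zero f).2 (hb0 i)) (fun i => hroot _) (by norm_num)
  have htG : t ∈ chevD4.group L := diagonal_le_group hD4 L ht
  have h1 : φ (c 0) = c 0 := mem_Fx.1 (c 0).2
  have e : ∀ i : Fin 4, ∀ r, chevD4.simple i = r → ∀ d, b i = d → ∀ a,
      t * xG hD4 r a * t⁻¹ = xG hD4 r (f d * a) := by
    rintro i r rfl d rfl a
    exact hpos i a
  have e' : ∀ i : Fin 4, ∀ r, chevD4.neg (chevD4.simple i) = r → ∀ d, (b i)⁻¹ = d → ∀ a,
      t * xG hD4 r a * t⁻¹ = xG hD4 r (f d * a) := by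
    rintro i r rfl d rfl a
    rw [map_inv₀]
    exact hneg i a
  refine ⟨⟨t, htG⟩, ht, ?_, fun i a => ?_, fun i a => ?_⟩
  · refine sig_torus hp onSimple (t := ⟨t, htG⟩) ht (b := fun i => f (b i)) hpos fun i => ?_
    show f (b ((![2, 1, 3, 0] : Fin 4 → Fin 4) i)) = Φ (f (b i))
    rw [hΦ, hb]
    fin_cases i
    · rfl
    · show f (c 0) = f (φ (c 0))
      rw [h1]
    · rfl
    · show f (c 1) = f (φ (φ (φ (c 1))))
      rw [h3]
  · show t * _ * t⁻¹ = _
    have hi : i = 0 ∨ i = 1 := by (revert i; simp only [_root_.Fin.forall_fin_succ, Fin.isValue, _root_.zero_ne_one, _root_.or_false, _root_.Fin.succ_ne_zero, _root_.false_or, _root_.Fin.succ_zero_eq_one, _root_.IsEmpty.forall_iff, _root_.and_self])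
    rcases hi with rfl | rfl
    · exact conj_one hD4 f φ (e 1 14 (by decide +kernel) _ (by rw [hb]; rfl)) a
    · exact conj_three hD4 f φ (e 0 18 (by decide +kernel) _ (by rw [hb]; rfl))
        (e 2 13 (by decide +kernel) _ (by rw [hb]; rfl)) (e 3 12 (by decide +kernel) _ (by rw [hb]; rfl)) a
  · show t * _ * t⁻¹ = _
    have hi : i = 0 ∨ i = 1 := by (revert i; simp only [_root_.Fin.forall_fin_succ, Fin.isValue, _root_.zero_ne_one, _root_.or_false, _root_.Fin.succ_ne_zero, _root_.false_or, _root_.Fin.succ_zero_eq_one, _root_.IsEmpty.forall_iff, _root_.and_self])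
    rcases hi with rfl | rfl
    · exact conj_one hD4 f φ (e' 1 9 (by decide +kernel) _ (by rw [hb]; rfl)) a
    · exact conj_three hD4 f φ (e' 0 5 (by decide +kernel) _ (by rw [hb]; rfl))
        (e' 2 10 (by decide +kernel) _ (by rw [hb, map_inv₀]; rfl))
        (e' 3 11 (by decide +kernel) _ (by rw [hb, map_inv₀, map_inv₀]; rfl)) a

end Emb

/-! ### lifting -/

section Lift

variable {K : Type u} {L : Type v} [Field K] [Fintype K] [Field L] {q : ℕ} {φ : K →+* K} (hφ : ∀ x, φ x = x ^ q)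
  (hK : Fintype.card K = q ^ 3) {W : Type*} [Group W] (cs : CoxeterSystem CoxeterMatrix.G₂ W)
  (r : ℕ) [Fact r.Prime] [CharP K r] (f : K →+* L)

include hφ hK in
/-- `σ` is trivial on `³D₄(q)`. -/
theorem sig_em {Φ : L ≃+* L} (hΦ : ∀ a, Φ (f a) = f (φ a)) (g : ↥(twistedD4 K q)) :
    gr hD4 symmD4a (fld chevD4 Φ (em q f g)) = em q f g :=
  Subtype.ext (sig_glMap symmD4a hΦ (D4Fixed.twisted_le_fix hK hφ g.2))

include cs r in
/-- the field automorphism is unique -/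
theorem dtau_unique {x : MulAut ↥(twistedD4 K q)} {a b : ↥(twistedD4 K q)} {τ τ' : K ≃+* K}
    (S : DTau hφ hK (MulAut.conj a * x) τ) (S' : DTau hφ hK (MulAut.conj b * x) τ') : τ = τ' := by
  have : Finite W := finiteW cs
  have R := Cfsg.Agent.Nodes.RGDTwD4.rgd cs hK hφ r
  have hG1 : RGD.Sup (X φ q) {x | IsRoot cs isCartan x} = ⊤ := _root_.Cfsg.Agent.Nodes.RGDTwD4.G1_eq_top cs hK hφ
  have hG := GG_eq_top (T := T K q) hG1
  have e : MulAut.conj a * x * (MulAut.conj b * x)⁻¹ = MulAut.conj (a * b⁻¹) := by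
    rw [map_mul, map_inv, mul_inv_rev]
    group
  have D : Diag (T K q) (X φ q) (MulAut.conj (a * b⁻¹)) 1 := by
    have := S.diag.mul S'.diag.inv
    rwa [e, inv_one, mul_one] at this
  have h1 := (dtau_conj hφ hK cs r (mem_T_of_diag R hG D)).mul hφ hK S'
  have h2 : MulAut.conj (a * b⁻¹) * (MulAut.conj b * x) = MulAut.conj a * x := by
    rw [map_mul, map_inv]
    group
  rw [h2, one_mul] at h1
  exact DTau.unique hφ hK S h1

/-- powers -/
theorem dtau_pow' {x : MulAut ↥(twistedD4 K q)} {a : ↥(twistedD4 K q)} {τ : K ≃+* K}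
    (S : DTau hφ hK (MulAut.conj a * x) τ) (m : ℕ) : ∃ b, DTau hφ hK (MulAut.conj b * x ^ m) (τ ^ m) := by
  obtain ⟨b, -, hb⟩ := conj_mul_pow (α := x) (H := ⊤) (fun _ => ⟨fun _ => trivial, fun _ => trivial⟩) (u := a)
    (Subgroup.mem_top a) m
  exact ⟨b, by rw [← hb]; exact dtau_pow hφ hK S m⟩

include cs r in
theorem tau_pow_eq_one {x : MulAut ↥(twistedD4 K q)} {a : ↥(twistedD4 K q)} {τ : K ≃+* K}
    (S : DTau hφ hK (MulAut.conj a * x) τ) {m : ℕ} (hx : x ^ m = 1) : τ ^ m = 1 := by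
  obtain ⟨b, hb⟩ := dtau_pow' hφ hK S m
  rw [hx] at hb
  refine dtau_unique hφ hK cs r (x := 1) (b := 1) hb ?_
  rw [map_one, one_mul]
  exact DTau.one hφ hK

include cs r in
/-- **Every automorphism of `³D₄(q)` is `conj y ∘ st τ`, `y ∈ D₄(L)^σ`.** -/
theorem exists_lift (hq1 : 1 < q) (hroot : ∀ a : K, ∃ b : L, b ^ 2 = f a)
    {Φ : L ≃+* L} (hΦ : ∀ a, Φ (f a) = f (φ a)) (x : MulAut ↥(twistedD4 K q)) :
    ∃ (a : ↥(twistedD4 K q)) (τ : K ≃+* K) (y : ↥(chevD4.group L)), DTau hφ hK (MulAut.conj a * x) τ ∧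
      gr hD4 symmD4a (fld chevD4 Φ y) = y ∧ ∀ g, em q f (x g) = y * em q f (st q τ g) * y⁻¹ := by
  have : Finite W := finiteW cs
  have R := Cfsg.Agent.Nodes.RGDTwD4.rgd cs hK hφ r
  have hG1 : RGD.Sup (X φ q) {x | IsRoot cs isCartan x} = ⊤ := _root_.Cfsg.Agent.Nodes.RGDTwD4.G1_eq_top cs hK hφ
  have hG := GG_eq_top (T := T K q) hG1
  obtain ⟨a, s, D⟩ := exists_frame_any R hG x
  have hs1 : s = 1 := by
    apply perm_G2 s
    intro h3
    have h4 := Diag.card_eq D 0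
    rw [h3] at h4
    exact card_ne hφ hK hq1 h4
  subst hs1
  obtain ⟨τ, S⟩ := exists_dtau hφ hK cs r D
  have N : NTau (T K q) (X φ q) (chD hφ hK) (MulAut.conj a * x * (st q τ)⁻¹) 1 := by
    have := (ntau_of_dtau hφ hK S).mul (ntau_st hφ hK τ cs r).inv
    rwa [mul_inv_cancel] at this
  have hc : ∀ i, ∃ c : KD φ i, c ≠ 0 ∧ ∀ b, (MulAut.conj a * x * (st q τ)⁻¹) (PhiD hφ hK i (up b)) =
      PhiD hφ hK i (up (c * b)) := fun i => NTau.semi (coordD hφ hK) N i
  choose c hc0 hc using hc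
  obtain ⟨t, htT, htσ, hpos, hneg⟩ := exists_tor f (phi_three hφ hK) hroot hΦ c hc0
  have hlo : ∀ (i : Fin 2) (b : KD φ i), t * em q f (PhiD hφ hK i (lo b)) * t⁻¹ =
      em q f (PhiD hφ hK i (lo ((c i)⁻¹ * b))) := by
    intro i b
    apply Subtype.ext
    rw [Subgroup.coe_mul, Subgroup.coe_mul, Subgroup.coe_inv, coe_em, coe_em, coe_lo, coe_lo, hneg]
    rfl
  have key := ext_of_torus R hG1 N.diag (e := em q f) (em_injective f) (t := t)
    (fun s hs => by
      have h1 : em q f s ∈ TT chevD4 L := Cfsg.Agent.GpExc.Field.glMap_diagonal hp f hs.1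
      rw [TorChev.TT_comm hp t htT _ h1, mul_inv_cancel_right])
    (fun i y hy => by
      obtain ⟨b, rfl⟩ := (mem_X hφ hK i y).1 hy
      rw [hc]
      apply Subtype.ext
      rw [Subgroup.coe_mul, Subgroup.coe_mul, Subgroup.coe_inv, coe_em, coe_em, coe_up, coe_up, hpos]
      rfl)
    (fun i y hy => by
      obtain ⟨b, rfl⟩ := (mem_neg R (mem_X hφ hK) (PhiD_wS hφ hK) i y).1 hy
      exact ⟨_, (mem_neg R (mem_X hφ hK) (PhiD_wS hφ hK) i _).2 ⟨_, rfl⟩, hlo i b⟩)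
    (fun i y hy => by
      obtain ⟨b, rfl⟩ := (mem_neg R (mem_X hφ hK) (PhiD_wS hφ hK) i y).1 hy
      refine ⟨PhiD hφ hK i (lo (c i * b)), (mem_neg R (mem_X hφ hK) (PhiD_wS hφ hK) i _).2 ⟨_, rfl⟩, ?_⟩
      have h1 := hlo i (c i * b)
      rw [inv_mul_cancel_left₀ (hc0 i)] at h1
      rw [← h1]
      group)
  refine ⟨a, τ, (em q f a)⁻¹ * t, S, ?_, fun g => ?_⟩
  · rw [map_mul, map_mul, map_inv, map_inv, htσ, sig_em hφ hK f hΦ]
  · have h1 := key (st q τ g)
    have h2 : (MulAut.conj a * x * (st q τ)⁻¹) (st q τ g) = a * x g * a⁻¹ := by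
      rw [MulAut.mul_apply, MulAut.mul_apply, MulAut.inv_apply_self, MulAut.conj_apply]
    rw [h2, map_mul, map_mul, map_inv] at h1
    have h3 : em q f (x g) = (em q f a)⁻¹ * (em q f a * em q f (x g) * (em q f a)⁻¹) * em q f a := by group
    rw [h3, ← h1]
    group

end Lift

end Cfsg.Agent.H28.FamFour

end


section

/-!
# The automorphisms of prime order `p ≠ 3` of `³D₄(q)` inside `D₄(L)` (S1332-EXC (i2), helper66)

* `exists_long`, `eq_one_of_comm` : the centralizer of `³D₄(q)` in `D₄(L)` is trivial;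
* `fr_gr` : the graph automorphism is a frame automorphism;
* `fam` : the hypothesis `hfam` of `Asm.bps` for `ι = em q f`, `σ = gr * fld Φ`.
-/

set_option autoImplicit false
set_option linter.unusedSectionVars false
set_option maxHeartbeats 400000

namespace Cfsg.Agent.H28.FamFour

open Cfsg.Agent.BpExc Cfsg.Agent.BpExc.FamTw Cfsg.Agent.H522.FamTw

open CoxeterSystem Cfsg.Agent.ChevalleyStructure.CoxeterGeom Cfsg.Agent.Tits.Roots Cfsg.Agent.Tits.Core
  Cfsg.Agent.Tits.Exchange Cfsg.Agent.Nodes.Reps Cfsg.Agent.Nodes.BNOf Cfsg.Agent.Nodes.StabComb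
  Cfsg.Agent.Nodes.Bruhat Cfsg.Agent.Nodes.OppDec Cfsg.Agent.Nodes.RGDTwGen Cfsg.Agent.Nodes.RGDChev
  Cfsg.Agent.Nodes.RGDFold Cfsg.Agent.Nodes.RGDFoldSL
open Cfsg.Agent.KFacts.RgdOpp Cfsg.Agent.KFacts.RgdAut Cfsg.Agent.KFacts.RgdDiag Cfsg.Agent.KFacts.RgdRigid
  Cfsg.Agent.KFacts.RgdField Cfsg.Agent.KFacts.RgdTau Cfsg.Agent.KFacts.RgdNodes
open Cfsg.Lie Cfsg.Agent.ChevalleyStructure Cfsg.Agent.ChevalleyStructure.Elts Cfsg.Agent.ChevStructure.FieldMap
open Cfsg.Agent.ChevalleyStructure.SL2Hom (up lo)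
open Cfsg.Agent.ChevalleyStructure.SignedSymm
open Cfsg.Agent.KFacts.TwDFour.Out
open Cfsg.Agent.Nodes.RGDTwD4 Cfsg.Agent.Nodes.RGDTwNode.D4
open Cfsg.Agent.ParSys.Fam.D4 (hf)
open Cfsg.Agent.ChevalleyStructure.GraphSymm (symmD4a)
open Cfsg.Agent.CpAut.RgdFix Cfsg.Agent.CpAut.RgdCoh Cfsg.Agent.CpAut.RgdConj Cfsg.Agent.CpAut.RgdSub
  Cfsg.Agent.CpAut.RgdTwStd Cfsg.Agent.CpAut.RgdTwD4
open Cfsg.Agent.CpAut.RgdUntw (fld fld_coe fld_mul fld_one fld_pow)
open Cfsg.Agent.GpExc.Field (glMap coe_glMap)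
open Cfsg.Agent.BpExc.FamTw.Gr Cfsg.Agent.BpExc.FamField
open Cfsg.Agent.KFacts.RgdChevCoord (TT XX xc coe_xc)
open Cfsg.Agent.BpExc.TowChev (LocFin coordsL)
open Cfsg.Agent.BpExc.LangFr (IsFrob frob_zero)
open Cfsg.Agent.BpExc.Fr (Fr)

universe u v w

/-! ### the graph automorphism is a frame automorphism -/

section FrGr

variable {D : ChevalleyDatum} {l : ℕ} {M : CoxeterMatrix (Fin l)} (hp : IsType D l M) {S : Symm D}
  {k : Type u} [Field k] {W : Type v} [Group W] (cs : CoxeterSystem M W)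

theorem gr_isFrob (r : ℕ) [Fact r.Prime] [CharP k r] : IsFrob r 0 (gr (L := k) hp.inList S) :=
  ⟨S.P k, fun g => by rw [frob_zero]; rfl⟩

variable {ρ : Fin l → Fin l} (H : OnSimple D l S ρ) {g : (Fin l → ℤ) ≃+ (Fin l → ℤ)}
  (hg : ∀ r : Fin D.nroots, g (vec D l r.val) = vec D l (S.σ r).val)

include H hg in
theorem fr_gr (hk : LocFin k) (r : ℕ) [Fact r.Prime] [CharP k r] {m : ℕ} (hm : gr (L := k) hp.inList S ^ (m + 1) = 1) :
    Fr cs hp.isCartan (TT D k) (XX D l k) (gr hp.inList S) g := by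
  have C := coordsL hp cs hk r
  have hroot : ∀ a, IsRoot cs hp.isCartan a → IsRoot cs hp.isCartan (g a) := by
    intro a ha
    obtain ⟨s, hs, rfl⟩ := (isRoot_iff hp cs a).1 ha
    have h1 := hg ⟨s, hs⟩
    rw [show g (vec D l s) = _ from h1]
    exact (isRoot_iff hp cs _).2 ⟨_, (S.σ ⟨s, hs⟩).2, rfl⟩
  have hroot' : ∀ a, IsRoot cs hp.isCartan (g a) → IsRoot cs hp.isCartan a := by
    intro a ha
    obtain ⟨s, hs, e⟩ := (isRoot_iff hp cs _).1 ha
    obtain ⟨r', hr'⟩ := S.σ.surjective ⟨s, hs⟩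
    have h1 := hg r'
    rw [hr'] at h1
    have h2 : g (vec D l r'.val) = g a := by rw [h1, e]
    rw [← g.injective h2]
    exact (isRoot_iff hp cs _).2 ⟨_, r'.2, rfl⟩
  have hX : ∀ a, IsRoot cs hp.isCartan a → ∀ y ∈ XX D l k a, gr hp.inList S y ∈ XX D l k (g a) := by
    intro a ha y hy
    obtain ⟨s, hs, rfl⟩ := (isRoot_iff hp cs a).1 ha
    obtain ⟨c, rfl⟩ := ((C.coord _ ha).mem y).1 hy
    have h1 := hg ⟨s, hs⟩
    rw [show g (vec D l s) = _ from h1]
    have ha' : IsRoot cs hp.isCartan (vec D l (S.σ ⟨s, hs⟩).val) :=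
      (isRoot_iff hp cs _).2 ⟨_, (S.σ ⟨s, hs⟩).2, rfl⟩
    refine ((C.coord _ ha').mem _).2 ⟨((S.ε ⟨s, hs⟩ : ℤ) : k) * c, ?_⟩
    apply Subtype.ext
    rw [coe_xc hp (S.σ ⟨s, hs⟩).2, coe_gr, coe_xc hp hs]
    exact (_root_.Cfsg.Agent.BpExc.FamTw.Gr.P_xG hp.inList S ⟨s, hs⟩ c).symm
  refine ⟨fun t => ⟨fun ht => ?_, fun ht => gr_TT hp H ht⟩, fun a => ⟨hroot' a, hroot a⟩, fun a ha y => ⟨fun hy => ?_,
    hX a ha y⟩⟩
  · have h1 : ∀ n : ℕ, (gr hp.inList S ^ n) (gr hp.inList S t) ∈ TT D k := by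
      intro n
      induction n with
      | zero => exact ht
      | succ n ih => rw [pow_succ', MulAut.mul_apply]; exact gr_TT hp H ih
    have h2 := h1 m
    rwa [← MulAut.mul_apply, ← pow_succ, hm] at h2
  · obtain ⟨s, hs, rfl⟩ := (isRoot_iff hp cs a).1 ha
    have h1 := hg ⟨s, hs⟩
    rw [show g (vec D l s) = _ from h1] at hy
    have ha' : IsRoot cs hp.isCartan (vec D l (S.σ ⟨s, hs⟩).val) :=
      (isRoot_iff hp cs _).2 ⟨_, (S.σ ⟨s, hs⟩).2, rfl⟩
    obtain ⟨c, hc⟩ := ((C.coord _ ha').mem _).1 hy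
    have h2 : gr hp.inList S (xc hp (vec D l s) (((S.ε ⟨s, hs⟩ : ℤ) : k) * c)) = gr hp.inList S y := by
      rw [← hc]
      apply Subtype.ext
      rw [coe_gr, coe_xc hp hs, coe_xc hp (S.σ ⟨s, hs⟩).2]
      have h3 := _root_.Cfsg.Agent.BpExc.FamTw.Gr.P_xG (L := k) hp.inList S ⟨s, hs⟩ (((S.ε ⟨s, hs⟩ : ℤ) : k) * c)
      rw [← mul_assoc, S.ε_sq', one_mul] at h3
      exact h3
    rw [← (gr hp.inList S).injective h2]
    exact ((C.coord _ ha).mem _).2 ⟨_, rfl⟩

end FrGr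

/-- the lattice automorphism of the triality -/
def gD : (Fin 4 → ℤ) ≃+ (Fin 4 → ℤ) where
  toFun a := ![a 3, a 1, a 0, a 2]
  invFun a := ![a 2, a 1, a 3, a 0]
  left_inv a := by
    funext i
    fin_cases i <;> rfl
  right_inv a := by
    funext i
    fin_cases i <;> rfl
  map_add' a b := by
    funext i
    fin_cases i <;> rfl

theorem gD_vec : ∀ r : Fin chevD4.nroots, gD (vec chevD4 4 r.val) = vec chevD4 4 (symmD4a.σ r).val := by
  decide +kernel

/-! ### the centralizer -/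

section Long

variable {D : ChevalleyDatum} {l m : ℕ} {M' : CoxeterMatrix (Fin l)} {hp : IsType D l M'}
  {M : CoxeterMatrix (Fin m)} {A : Fin m → Fin m → ℤ}
  {J : Fin m → List (Fin l)} {Ls : List (List ℕ)}
  {F : Type u} [Field F] [Finite F] {k : Type v} [Field k]
  {σ0 : GL D.Idx F →* GL D.Idx F} {ρ ρ' : ℕ → ℕ} {fF : ℕ → F → F} {G : Subgroup (GL D.Idx F)}

/-- A representative of the relative longest element. -/
theorem exists_long (FD : FoldData D M A J Ls) (FG : FoldGrp hp F J Ls σ0 ρ ρ' fF G) (f : F →+* k)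
    (h : IsCartan M A) : ∃ g ∈ G, g ∈ D.monomialSubgroup F ∧
      ∀ v ∈ D.negUnipotent k, glMap D f g * v * (glMap D f g)⁻¹ ∈ D.posUnipotent k := by
  have : Finite M.Group := _root_.Cfsg.Agent.Nodes.RGDFold.finite_W (hp := hp) M.toCoxeterSystem h FD
  obtain ⟨w0, hw0⟩ := RGD.exists_inv_eq_pos (cs := M.toCoxeterSystem) (h := h)
  obtain ⟨ω, hω⟩ := M.toCoxeterSystem.wordProd_surjective w0⁻¹
  refine ⟨(ω.map fun i => nI hp F (J i)).prod, Subgroup.list_prod_mem _ fun g hg => ?_,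
    Subgroup.list_prod_mem _ fun g hg => ?_, ?_⟩
  · obtain ⟨i, -, rfl⟩ := List.mem_map.1 hg
    exact FG.nG i
  · obtain ⟨i, -, rfl⟩ := List.mem_map.1 hg
    exact nI_mem hp F (J i)
  · intro v hv
    have e : glMap D f (ω.map fun i => nI hp F (J i)).prod = (ω.map fun i => nI hp k (J i)).prod := by
      rw [map_list_prod, List.map_map]
      congr 1
      refine List.map_congr_left fun i _ => ?_
      exact EmbTw.glMap_nI i
    rw [e]
    have h1 : D.negUnipotent k ≤ (D.posUnipotent k).comap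
        (MulAut.conj ((ω.map fun i => nI hp k (J i)).prod)).toMonoidHom := by
      rw [negUnipotent_le_iff hp.inList]
      intro r hr t
      obtain ⟨s, hs, hV, hcj⟩ := EmbTw.conj_wordProd h (hp := hp) (k := k) FD ω r hr.1
      have h2 : (ω.map fun i => nI hp k (J i)).prod * xG hp.inList r t * ((ω.map fun i => nI hp k (J i)).prod)⁻¹ ∈
          D.rootSubgroup k s := by
        rw [← hcj, conj_mem_cj]
        exact xG_mem_rootSubgroup hp.inList r t
      obtain ⟨c, hc⟩ := (mem_rootSubgroup_iff hp.inList _ _).1 h2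
      rw [Subgroup.mem_comap]
      show (ω.map fun i => nI hp k (J i)).prod * xG hp.inList r t * ((ω.map fun i => nI hp k (J i)).prod)⁻¹ ∈ _
      rw [hc]
      refine xG_mem_posUnipotent hp.inList ?_ c
      have hneg : D.neg r ∈ Ls.flatten := by
        rcases FD.negL r hr.1 with h3 | h3
        · exfalso
          have h4 := (RootComb.good_of_mem hp.inList).isPosRoot_iff.1 (FD.isPos r h3)
          have h5 := (RootComb.good_of_mem hp.inList).isNegRoot_iff.1 hr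
          omega
        · exact h3
      have hVneg : IsRoot M.toCoxeterSystem h (V D J (D.neg r)) ∧ 0 ≤ V D J (D.neg r) := by
        refine ⟨(FD.isRoot_iff hp.checked (fun i r hr => wp_lt hp (J i) hr) _).2 ⟨_, FD.ltL hneg, rfl⟩, ?_⟩
        intro i
        exact (FD.posL _ (FD.ltL hneg)).1 hneg i
      have h6 : V D J (D.neg r) ∈ RGD.Inv M.toCoxeterSystem h w0 := by
        rw [hw0]; exact hVneg
      have h7 := h6.2.2
      rw [V_neg hp.checked hr.1, map_neg, neg_nonpos, ← hω, ← hV] at h7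
      exact (EmbTw.pos_iff FD hp).2 ((FD.posL s hs).2 fun i => h7 i)
    exact h1 hv

end Long

section Cent

variable {K : Type u} {L : Type v} [Field K] [Fintype K] [Field L] {q : ℕ} {φ : K →+* K} (hφ : ∀ x, φ x = x ^ q)
  (hK : Fintype.card K = q ^ 3) (f : K →+* L)

theorem pos4 : ∀ r ∈ [14, 18, 13, 12], chevD4.IsPosRoot r := by decide +kernel

theorem simple_cases : ∀ i < chevD4.rank, chevD4.simple i ∈ [14, 18, 13, 12] := by decide +kernel

include hφ hK in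
/-- **The centralizer of `³D₄(q)` in `D₄(L)` is trivial.** -/
theorem eq_one_of_comm {z : ↥(chevD4.group L)} (hz : ∀ g : ↥(twistedD4 K q), z * em q f g = em q f g * z) : z = 1 := by
  obtain ⟨g0, hg0, hgm, hgl⟩ := exists_long (k := L) foldData
    (Cfsg.Agent.Nodes.RGDTwD4.foldGrp hφ (D4Fixed.twisted_le_fix hK hφ)) f isCartan
  have hu0 : wordG hD4 [(14, (1 : K)), (18, 1), (13, 1), (12, 1)] ∈ twistedD4 K q := by
    have h1 : xG hD4 14 (1 : K) ∈ twistedD4 K q := single_mem (one_pow q) (by simp)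
    have h2 : xG hD4 18 (1 : K) * (xG hD4 13 ((1 : K) ^ q) * xG hD4 12 ((1 : K) ^ (q ^ 2))) ∈ twistedD4 K q :=
      triple_mem (1 : K) (rs := (18, 13, 12)) (by simp)
    rw [one_pow, one_pow] at h2
    have h3 := mul_mem h1 h2
    rw [wordG_cons, wordG_cons, wordG_cons, wordG_cons, wordG_nil, mul_one]
    exact h3
  have hc1 := congrArg Subtype.val (hz ⟨_, hu0⟩)
  have hc2 := congrArg Subtype.val (hz ⟨_, hg0⟩)
  rw [Subgroup.coe_mul, Subgroup.coe_mul, coe_em] at hc1 hc2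
  apply Subtype.ext
  have hw : glMap chevD4 f (wordG hD4 [(14, (1 : K)), (18, 1), (13, 1), (12, 1)]) =
      wordG hD4 [(14, (1 : L)), (18, 1), (13, 1), (12, 1)] := by
    rw [Emb.glMap_wordG]
    simp only [List.map_cons, List.map_nil, map_one]
  have hmem : ∀ x ∈ [(14, (1 : L)), (18, 1), (13, 1), (12, 1)], chevD4.IsPosRoot x.1 := by
    intro x hx
    refine pos4 _ ?_
    simp only [List.mem_cons, List.not_mem_nil, or_false] at hx
    rcases hx with rfl | rfl | rfl | rfl <;> simp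
  refine Cent.eq_one_of_comm hp z.2 (u := wordG hD4 [(14, (1 : L)), (18, 1), (13, 1), (12, 1)])
    (n := glMap chevD4 f g0) ?_ ?_ ?_ (Emb.glMap_mono hD4 f hgm) hgl hc2
  · rw [wordG_cons, wordG_cons, wordG_cons, wordG_cons, wordG_nil, mul_one]
    exact mul_mem (xG_mem_posUnipotent hD4 (pos4 14 (by simp)) _) (mul_mem (xG_mem_posUnipotent hD4 (pos4 18 (by simp)) _)
      (mul_mem (xG_mem_posUnipotent hD4 (pos4 13 (by simp)) _) (xG_mem_posUnipotent hD4 (pos4 12 (by simp)) _)))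
  · intro i hi
    refine ⟨_, Cent.co_word hi _ hmem, ?_⟩
    have h1 := simple_cases i hi
    simp only [List.mem_cons, List.not_mem_nil, or_false] at h1
    rcases h1 with h1 | h1 | h1 | h1 <;> simp [h1]
  · rw [← hw]
    exact hc1

end Cent

/-! ### the field automorphisms -/

section Field

variable {K : Type u} {L : Type v} [Field K] [Fintype K] [Field L] {q : ℕ} {φ : K →+* K} (hφ : ∀ x, φ x = x ^ q)
  (hK : Fintype.card K = q ^ 3) (f : K →+* L)

theorem st_mul (τ τ' : K ≃+* K) (g : ↥(twistedD4 K q)) : st q (τ * τ') g = st q τ (st q τ' g) := by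
  apply Subtype.ext
  show glEquiv chevD4 (τ * τ') (g : GL chevD4.Idx K) = glEquiv chevD4 τ (glEquiv chevD4 τ' g)
  exact glE_mul τ τ' _

theorem st_one (g : ↥(twistedD4 K q)) : st q (1 : K ≃+* K) g = g :=
  Subtype.ext (glE_one _)

theorem fld_em {τ : K ≃+* K} {τ' : L ≃+* L} (h : ∀ a, τ' (f a) = f (τ a)) (g : ↥(twistedD4 K q)) :
    fld chevD4 τ' (em q f g) = em q f (st q τ g) := by
  apply Subtype.ext
  apply Units.ext
  ext i j
  exact h _

include hφ hK in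
/-- `gr` on `³D₄(q)` is the inverse of the Frobenius `a ↦ a ^ q` -/
theorem gr_em {Φ : L ≃+* L} {τ : K ≃+* K} (hΦ : ∀ a, Φ (f a) = f (φ a)) (hτ : ∀ a, φ (τ a) = a)
    (g : ↥(twistedD4 K q)) : gr hD4 symmD4a (em q f g) = em q f (st q τ g) := by
  have h1 := sig_em hφ hK f hΦ (st q τ g)
  have h2 : fld chevD4 Φ (em q f (st q τ g)) = em q f g := by
    apply Subtype.ext
    apply Units.ext
    ext i j
    show Φ (f (τ _)) = f _
    rw [hΦ, hτ]
    rfl
  rw [h2] at h1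
  exact h1

end Field

section Fam

variable {L : Type u} [Field L] [IsAlgClosed L] (hk : LocFin L) {K : Type u} [Field K] [Fintype K] {q : ℕ}
  (hq : IsPrimePow q) (hK : Fintype.card K = q ^ 3) (f : K →+* L)
  (r : ℕ) [Fact r.Prime] [CharP L r] [CharP K r] {W : Type v} [Group W] (cs : CoxeterSystem coxeterD4 W)

include hk hq hK r in
/-- **(i2) for `³D₄(q)`, `p ≠ 3`**: the hypothesis `hfam` of `Asm.bps`. -/
theorem fam {Φ : L ≃+* L} (hΦ : ∀ a, Φ a = a ^ q) {p : ℕ} (hpp : p.Prime) (hp3 : p ≠ 3)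
    (x : MulAut ↥(twistedD4 K q)) (hx : orderOf x = p) :
    (∃ y : ↥(chevD4.group L), y ^ p = 1 ∧ (gr hD4 symmD4a * fld chevD4 Φ : MulAut ↥(chevD4.group L)) y = y ∧
      ∀ a, em q f (x a) = y * em q f a * y⁻¹) ∨
    ∃ (i : ℕ) (c : ↥(chevD4.group L)) (φ' : MulAut ↥(chevD4.group L)) (g' : (Fin 4 → ℤ) ≃+ (Fin 4 → ℤ)) (e' : ℕ),
      i.Coprime p ∧ 0 < e' ∧ IsFrob r e' φ' ∧ Fr cs hp.isCartan (TT chevD4 L) (XX chevD4 4 L) φ' g' ∧
      (MulAut.conj c * φ') ^ p = gr hD4 symmD4a * fld chevD4 Φ ∧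
      ∀ a, em q f ((x ^ i) a) = (MulAut.conj c * φ') (em q f a) := by
  obtain ⟨φ, hφ⟩ := D4Fixed.exists_frob hq hK
  obtain ⟨cs', -⟩ : ∃ cs : CoxeterSystem CoxeterMatrix.G₂ CoxeterMatrix.G₂.Group, cs = cs :=
    ⟨CoxeterMatrix.G₂.toCoxeterSystem, rfl⟩
  have hroot : ∀ a : K, ∃ b : L, b ^ 2 = f a := fun a => IsAlgClosed.exists_pow_nat_eq (f a) two_pos
  have hΦf : ∀ a, Φ (f a) = f (φ a) := fun a => by rw [hΦ, hφ, map_pow]
  have hxp : x ^ p = 1 := by rw [← hx, pow_orderOf_eq_one]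
  obtain ⟨a, τ, y, S, hy, hxy⟩ := exists_lift hφ hK cs' r f hq.one_lt hroot hΦf x
  have hτp := tau_pow_eq_one hφ hK cs' r S hxp
  have hcent : ∀ c, (gr hD4 symmD4a * fld chevD4 Φ : MulAut ↥(chevD4.group L)) c = c → (∀ g, c * em q f g = em q f g * c) → c = 1 :=
    fun c _ hc => eq_one_of_comm hφ hK f hc
  by_cases hτ1 : τ = 1
  · left
    subst hτ1
    have hxy' : ∀ g, em q f (x g) = y * em q f g * y⁻¹ := fun g => by rw [hxy, st_one]
    refine ⟨y, ?_, hy, hxy'⟩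
    have h1 := pow_eq (σ := gr hD4 symmD4a * fld chevD4 Φ) (ψ := 1) (e := em q f) (fun z => rfl) hcent hxp
      (fun g => by rw [one_pow]; rfl) (by exact hy) hxy'
    rw [mul_one, one_pow, ← map_pow] at h1
    refine hcent _ ?_ fun g => ?_
    · rw [map_pow]
      exact congrArg (· ^ p) hy
    · have h2 := congrArg (fun α : MulAut ↥(chevD4.group L) => α (em q f g)) h1
      have h3 : y ^ p * em q f g * (y ^ p)⁻¹ = em q f g := h2
      rwa [mul_inv_eq_iff_eq_mul] at h3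
  · right
    have hr : r.Prime := Fact.out
    obtain ⟨i, e, hi, he0, hcard, hfr⟩ := _root_.Cfsg.Agent.BpExc.FamField.exists_field r hpp hτp hτ1
    -- `q = r ^ a₁`
    obtain ⟨a₁, -, hqa⟩ : ∃ a₁ ≤ e * p, q = r ^ a₁ := by
      refine (Nat.dvd_prime_pow hr).1 ?_
      rw [← hcard, Nat.card_eq_fintype_card, hK]
      exact dvd_pow_self q (by norm_num)
    have h3a : a₁ * 3 = e * p := by
      rw [Nat.card_eq_fintype_card, hK, hqa, ← pow_mul] at hcard
      exact Nat.pow_right_injective hr.two_le hcard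
    have hpa : p ∣ a₁ := by
      have h1 : p ∣ a₁ * 3 := ⟨e, by rw [h3a, mul_comm]⟩
      rcases (Nat.Prime.dvd_mul hpp).1 h1 with h2 | h2
      · exact h2
      · exact absurd ((Nat.prime_dvd_prime_iff_eq hpp Nat.prime_three).1 h2) hp3
    obtain ⟨a₀, rfl⟩ := hpa
    have hea : e = 3 * a₀ := by
      have h1 : p * (3 * a₀) = p * e := by rw [mul_comm p e, ← h3a]; ring
      exact (Nat.eq_of_mul_eq_mul_left hpp.pos h1).symm
    subst hea
    have ha0 : 0 < a₀ := by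
      rcases Nat.eq_zero_or_pos a₀ with h0 | h0
      · rw [h0] at he0
        exact absurd he0 (by norm_num)
      · exact h0
    -- `j p = 1 mod 3`
    obtain ⟨j, t, hjt⟩ : ∃ j t : ℕ, j * p = 3 * t + 1 := by
      have h0 : p % 3 ≠ 0 := fun h => hp3 ((Nat.prime_dvd_prime_iff_eq Nat.prime_three hpp).1
        (Nat.dvd_of_mod_eq_zero h)).symm
      have hdm := Nat.div_add_mod p 3
      have hmod : p % 3 = 1 ∨ p % 3 = 2 := by omega
      rcases hmod with hm | hm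
      · exact ⟨1, p / 3, by omega⟩
      · exact ⟨2, 2 * (p / 3) + 1, by omega⟩
    obtain ⟨s, hs⟩ : ∃ s : ℕ, s = 2 * t + 1 := ⟨_, rfl⟩
    have hs3 : 3 * s = 1 + 2 * (j * p) := by rw [hjt, hs]; ring
    have hsp : s.Coprime p := by
      refine ((Nat.Prime.coprime_iff_not_dvd hpp).2 fun h1 => ?_).symm
      have h2 : p ∣ 1 + 2 * (j * p) := by rw [← hs3]; exact h1.mul_left 3
      have h3 : p ∣ 2 * (j * p) := ⟨2 * j, by ring⟩
      exact hpp.one_lt.ne' (Nat.dvd_one.1 ((Nat.dvd_add_left h3).1 h2))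
    have hperfL : PerfectRing L r := inferInstance
    have hperfK : PerfectRing K r := inferInstance
    obtain ⟨φ₀, hφ₀⟩ : ∃ φ₀ : MulAut ↥(chevD4.group L), φ₀ = gr hD4 symmD4a ^ j * fld chevD4 (frb L r a₀) := ⟨_, rfl⟩
    have hΦe : Φ = frb L r a₀ ^ p := by
      ext b
      rw [frb_pow, frb_apply, hΦ, hqa, mul_comm]
    have hcomm : Commute (gr (L := L) hD4 symmD4a) (fld chevD4 (frb L r a₀)) := gr_mul_fld hD4 symmD4a _
    have hpow : φ₀ ^ p = gr hD4 symmD4a * fld chevD4 Φ := by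
      rw [hφ₀, (hcomm.pow_left j).mul_pow, ← pow_mul, hjt, pow_succ, pow_mul, gr_cube_D4, one_pow, one_mul, ← fld_pow,
        ← hΦe]
    -- the action of `φ₀`
    have hψ : ∀ b : K, φ (frb K r (2 * (p * a₀)) b) = b := by
      intro b
      rw [hφ, frb_apply, hqa, ← pow_mul, ← pow_add]
      have h1 : 2 * (p * a₀) + p * a₀ = p * a₀ * 3 := by ring
      rw [h1, pow_mul, ← hqa, ← hK]
      exact FiniteField.pow_card b
    have hgr : ∀ (n : ℕ) (g : ↥(twistedD4 K q)),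
        (gr hD4 symmD4a ^ n) (em q f g) = em q f (st q (frb K r (2 * (p * a₀)) ^ n) g) := by
      intro n
      induction n with
      | zero => intro g; rw [pow_zero, pow_zero, st_one]; rfl
      | succ n ih =>
        intro g
        rw [pow_succ, MulAut.mul_apply, gr_em hφ hK f hΦf hψ, ih, pow_succ, st_mul]
    have hτs : frb K r (2 * (p * a₀)) ^ j * frb K r a₀ = τ ^ (i * s) := by
      apply RingEquiv.ext
      intro b
      rw [pow_mul, pow_apply_of hfr, frb_pow, RingAut.mul_apply, frb_apply, frb_apply, ← pow_mul, ← pow_add]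
      congr 2
      have h1 : 3 * a₀ * s = (3 * s) * a₀ := by ring
      rw [h1, hs3]
      ring
    have hact : ∀ g : ↥(twistedD4 K q), φ₀ (em q f g) = em q f (st q (τ ^ (i * s)) g) := by
      intro g
      rw [hφ₀, MulAut.mul_apply, fld_em f (τ := frb K r a₀) (fun b => by rw [frb_apply, frb_apply, map_pow]), hgr,
        ← st_mul, hτs]
    obtain ⟨a', τ', y', S', hy', hxy'⟩ := exists_lift hφ hK cs' r f hq.one_lt hroot hΦf (x ^ (i * s))
    obtain ⟨b, hb⟩ := dtau_pow' hφ hK S (i * s)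
    have hττ : τ' = τ ^ (i * s) := dtau_unique hφ hK cs' r S' hb
    subst hττ
    have hxy'' : ∀ g, em q f ((x ^ (i * s)) g) = y' * φ₀ (em q f g) * y'⁻¹ := fun g => by rw [hxy', hact]
    have h1 : (MulAut.conj y' * φ₀) ^ p = φ₀ ^ p := by
      refine pow_eq (σ := gr hD4 symmD4a * fld chevD4 Φ) (ψ := φ₀) (e := em q f) (fun z => ?_) hcent
        (x := x ^ (i * s)) ?_ (fun g => ?_) hy' hxy''
      · rw [← hpow, ← MulAut.mul_apply, ← MulAut.mul_apply, ← pow_succ, ← pow_succ']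
      · rw [← pow_mul, mul_comm, pow_mul, hxp, one_pow]
      · rw [hpow]
        exact sig_em hφ hK f hΦf g
    obtain ⟨g1, hg1, -⟩ := (fr_gr hp cs onSimple gD_vec hk r (m := 2) gr_cube_D4).pow j
    refine ⟨i * s, y', φ₀, (AddEquiv.refl _).trans g1, a₀, ?_, ha0, ?_, ?_, ?_, hxy''⟩
    · exact Nat.Coprime.mul_left hi hsp
    · rw [hφ₀]
      have h2 := ((gr_isFrob (S := symmD4a) (k := L) hp r).pow j).mul
        (FamInst.phi_isFrob (D := chevD4) (k := L) r a₀)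
      rwa [mul_zero, zero_add] at h2
    · rw [hφ₀]
      exact hg1.mul (FamInst.fr_fld hp cs hk r _)
    · rw [h1, hpow]

end Fam

end Cfsg.Agent.H28.FamFour

end

private theorem dce_8629b52946af : _root_.True := by
  try have : _root_.True := by simp only [_root_.Cfsg.Agent.KFacts.TwDFour.Out.PhiD.congr_simp]
  exact _root_.True.intro
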