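import Cfsg.Agent.H28.T5Ok
import Cfsg.Agent.H172.SIComm
import Cfsg.Agent.BpExc.AsmN_m3
import Cfsg.Agent.FastGrp
import Cfsg.Agent.Prune
set_option linter.all false
prune_inst 0x7f00000000000000000000000000000000000000000000000000000000000000000000000000000000000000000000000000000000000000000000000000000000000000000000000000000000000000003fffffffffffffffffffffffffffbeffbdffffffff
open scoped Cfsg.Agent.FastGrp

/-!
# The fusion hypotheses of `T5Frob` for `D.group k`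

* `phi_TT` : the Frobenius automorphisms are power maps on the torus;
* `exists_root` : roots of unity of order `p` in an algebraically closed field;
* `fus` : `Fus p (TT D k)` if `p` divides no degree (`k` locally finite).
-/

set_option autoImplicit false
set_option linter.unusedSectionVars false

namespace Cfsg.Agent.H28.T5Fus

open CoxeterSystem Subgroup Cfsg Cfsg.Lie Cfsg.Lie.ChevalleyDatum
open Cfsg.Agent.ChevalleyStructure Cfsg.Agent.ChevalleyStructure.Elts Cfsg.Agent.ChevalleyStructure.CoxeterGeom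
  Cfsg.Agent.ChevalleyStructure.CoxeterGeomTypes Cfsg.Agent.ChevalleyStructure.NPerm
open Cfsg.Agent.Tits.Roots Cfsg.Agent.Tits.Core Cfsg.Agent.Nodes.Reps Cfsg.Agent.Nodes.BNOf
  Cfsg.Agent.Nodes.RGDChev Cfsg.Agent.Nodes.Bruhat
open Cfsg.Agent.KFacts.RgdChevCoord
open Cfsg.Agent.GpExc.Field (glMap emb coe_emb glMap_xG emb_injective coe_glMap emb_T)
open Cfsg.Agent.BpExc Cfsg.Agent.BpExc.TowChev Cfsg.Agent.BpExc.FamUntw
open Cfsg.Agent.H172.SI Cfsg.Agent.H190 Cfsg.Agent.H28.T5Frob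

universe u

variable {D : ChevalleyDatum} {l : ℕ} {M : CoxeterMatrix (Fin l)} (hp : IsType D l M)

include hp in
theorem phi_TT {k : Type u} [Field k] {r : ℕ} [Fact r.Prime] [CharP k r] [PerfectRing k r] (m : ℕ)
    {t : ↥(D.group k)} (ht : t ∈ TT D k) : phi D k r m t = t ^ r ^ m := by
  rw [Subgroup.mem_subgroupOf] at ht
  obtain ⟨χ, hχ⟩ := HMatDiagAll.mem_torus.1 (HMatDiagAll.diagonalSubgroup_le_torus hp.inList ht)
  apply Subtype.ext
  apply Units.ext
  rw [phi_coe, Subgroup.coe_pow, Units.val_pow_eq_pow_val, hχ, Matrix.diagonal_pow]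
  ext i j
  rw [Matrix.map_apply]
  by_cases hij : i = j
  · subst hij
    rw [Matrix.diagonal_apply_eq, Matrix.diagonal_apply_eq]
    rfl
  · rw [Matrix.diagonal_apply_ne _ hij, Matrix.diagonal_apply_ne _ hij,
      zero_pow (pow_ne_zero _ (Fact.out : r.Prime).ne_zero)]

theorem exists_root {k : Type u} [Field k] [IsAlgClosed k] {r : ℕ} [CharP k r] {p : ℕ} (hpp : p.Prime) (hr : r.Prime)
    (hpr : p ≠ r) : ∃ ζ : k, ζ ^ p = 1 ∧ ζ ≠ 1 := by
  have h1 : ((p : ℕ) : k) ≠ 0 := by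
    intro h
    rw [CharP.cast_eq_zero_iff k r] at h
    exact hpr ((Nat.prime_dvd_prime_iff_eq hr hpp).1 h).symm
  have : NeZero ((p : ℕ) : k) := ⟨h1⟩
  obtain ⟨ζ, hζ⟩ := IsAlgClosed.exists_root (Polynomial.cyclotomic p k) (by
    rw [Polynomial.degree_cyclotomic]
    exact_mod_cast (Nat.totient_pos.2 hpp.pos).ne')
  have h2 : IsPrimitiveRoot ζ p := (Polynomial.isRoot_cyclotomic_iff).1 hζ
  exact ⟨ζ, h2.pow_eq_one, h2.ne_one hpp.one_lt⟩

theorem dvd_card_sub_one {E : Type u} [Field E] [Fintype E] {p : ℕ} (hpp : p.Prime) {ζ : E} (h : ζ ^ p = 1)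
    (h1 : ζ ≠ 1) : p ∣ Fintype.card E - 1 := by
  have h0 : ζ ≠ 0 := by
    rintro rfl
    rw [zero_pow hpp.ne_zero] at h
    exact zero_ne_one h
  have h2 : orderOf (Units.mk0 ζ h0) = p := by
    refine orderOf_eq_prime_iff (hp := ⟨hpp⟩) |>.2 ⟨?_, ?_⟩
    · apply Units.ext
      simpa using h
    · intro h3
      exact h1 (by simpa using congrArg Units.val h3)
  classical
  rw [← Fintype.card_units, ← h2]
  exact orderOf_dvd_card

/-- the elements of a finite group: `n ^ a` is a `p`-element, `a` prime to `p` -/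
theorem exists_ppart {G : Type*} [Group G] [Finite G] {p : ℕ} (hpp : p.Prime) (n : G) :
    ∃ a : ℕ, a.Coprime p ∧ ∃ j : ℕ, (n ^ a) ^ p ^ j = 1 := by
  obtain ⟨j, a, ha, he⟩ := Nat.exists_eq_pow_mul_and_not_dvd (orderOf_pos n).ne' p hpp.ne_one
  refine ⟨a, ((Nat.Prime.coprime_iff_not_dvd hpp).2 ha).symm, j, ?_⟩
  rw [← pow_mul, mul_comm, ← he, pow_orderOf_eq_one]

theorem act_of_comm {G : Type*} [Group G] [Finite G] {p : ℕ} (hpp : p.Prime)
    (hc : ∀ Q : Subgroup G, IsPGroup p Q → ∀ a ∈ Q, ∀ b ∈ Q, a * b = b * a) (n : G) {U : Subgroup G}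
    (hU : IsPGroup p U) (hn : ∀ u ∈ U, n * u * n⁻¹ ∈ U) : ∃ a : ℕ, a.Coprime p ∧ ∀ u ∈ U, n ^ a * u = u * n ^ a := by
  obtain ⟨a, ha, j, hj⟩ := exists_ppart hpp n
  refine ⟨a, ha, ?_⟩
  have hnU : n ∈ normalizer (U : Set G) := by
    have h1 : ∀ m : ℕ, ∀ u ∈ U, n ^ m * u * (n ^ m)⁻¹ ∈ U := by
      intro m
      induction m with
      | zero => intro u hu; simpa using hu
      | succ m ih =>
        intro u hu
        have h2 := hn _ (ih u hu)
        have h3 : n ^ (m + 1) * u * (n ^ (m + 1))⁻¹ = n * (n ^ m * u * (n ^ m)⁻¹) * n⁻¹ := by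
          rw [pow_succ']; group
        rw [h3]; exact h2
    have h4 : ∃ m : ℕ, n⁻¹ = n ^ m := by
      refine ⟨orderOf n - 1, ?_⟩
      rw [inv_eq_iff_mul_eq_one, ← pow_succ', Nat.sub_add_cancel (orderOf_pos n), pow_orderOf_eq_one]
    rw [Subgroup.mem_normalizer_iff]
    intro u
    refine ⟨fun hu => hn u hu, fun hu => ?_⟩
    obtain ⟨m, hm⟩ := h4
    have h5 := h1 m _ hu
    rw [← hm, inv_inv] at h5
    have h6 : n⁻¹ * (n * u * n⁻¹) * n = u := by group
    rwa [h6] at h5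
  have hZ : IsPGroup p (Subgroup.zpowers (n ^ a)) := by
    rintro ⟨_, i, rfl⟩
    refine ⟨j, Subtype.ext ?_⟩
    show ((n ^ a) ^ i) ^ p ^ j = 1
    rw [← zpow_natCast, ← zpow_mul, mul_comm, zpow_mul, zpow_natCast, hj, one_zpow]
  have hZn : Subgroup.zpowers (n ^ a) ≤ normalizer (U : Set G) := by
    rw [Subgroup.zpowers_le]
    exact Subgroup.pow_mem _ hnU a
  have hV := hZ.to_sup_of_normal_right' hU hZn
  intro u hu
  exact hc _ hV _ (Subgroup.mem_sup_left (Subgroup.mem_zpowers _)) _ (Subgroup.mem_sup_right hu)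

include hp in
/-- **The fusion hypotheses.** -/
theorem fus {k : Type} [Field k] [IsAlgClosed k] (hk : LocFin k) {r : ℕ} [Fact r.Prime] [CharP k r]
    {d : ℕ → ℕ} {N : ℕ} {ds : List ℕ} (h : Deg D d N ds) {p : ℕ} (hpp : p.Prime) (hpr : p ≠ r)
    (hds : ∀ x ∈ ds, ¬ p ∣ x) : Fus p (TT D k) := by
  have : Fact p.Prime := ⟨hpp⟩
  obtain ⟨ζ, hζ, hζ1⟩ := exists_root (k := k) hpp (Fact.out : r.Prime) hpr
  -- a level
  have key : ∀ (n : ↥(D.group k)) (U : Subgroup ↥(D.group k)), Finite U → ∃ E : Lev k, p ∣ Nat.card ↥E.1 - 1 ∧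
      n ∈ (emb hp.inList E.1.subtype).range ∧ U ≤ (emb hp.inList E.1.subtype).range := by
    intro n U hU
    obtain ⟨E₁, hE₁⟩ := exists_level_finite hp hk (S := insert n (U : Set ↥(D.group k)))
      ((Set.toFinite (U : Set ↥(D.group k))).insert n)
    obtain ⟨E₂, hE₂⟩ := exists_mem_lev hk ζ
    obtain ⟨E, h1, h2⟩ := dir_lev hk E₁ E₂
    refine ⟨E, ?_, hE₁ E h1 (Set.mem_insert _ _), fun u hu => hE₁ E h1 (Set.mem_insert_of_mem _ hu)⟩
    have := Fintype.ofFinite ↥E.1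
    rw [Nat.card_eq_fintype_card]
    exact dvd_card_sub_one hpp (ζ := (⟨ζ, h2 hE₂⟩ : ↥E.1)) (Subtype.ext hζ) fun h3 => hζ1 (congrArg Subtype.val h3)
  constructor
  · intro U hU hUp
    obtain ⟨E, hE, -, hUE⟩ := key 1 U hU
    have := Fintype.ofFinite ↥E.1
    have : Finite (GL D.Idx ↥E.1) := inferInstance
    rw [Nat.card_eq_fintype_card] at hE
    have hi : ¬ p ∣ (TG D ↥E.1).index := not_dvd_index h.mem ds (h.d0 _) h.card h.tor hpp hE hds
    obtain ⟨g, hg⟩ := H172.SI.exists_conj_le (TG D ↥E.1) hi (U.comap (emb hp.inList E.1.subtype))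
      (hUp.comap_of_injective _ (emb_injective hp.inList _))
    refine ⟨emb hp.inList E.1.subtype g, fun u hu => ?_⟩
    obtain ⟨u', rfl⟩ := hUE hu
    rw [← map_mul, ← map_inv, ← map_mul]
    exact emb_T hp _ ⟨_, hg u' hu, rfl⟩
  · intro n U hU hUp hn
    obtain ⟨E, hE, ⟨n', rfl⟩, hUE⟩ := key n U hU
    have := Fintype.ofFinite ↥E.1
    have : Finite (GL D.Idx ↥E.1) := inferInstance
    rw [Nat.card_eq_fintype_card] at hE
    have hpF : ¬ p ∣ Fintype.card ↥E.1 := by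
      intro h3
      have h4 : 1 < Fintype.card ↥E.1 := Fintype.one_lt_card
      have h5 := (Nat.dvd_sub h3 hE)
      have h6 : Fintype.card ↥E.1 - (Fintype.card ↥E.1 - 1) = 1 := by omega
      rw [h6] at h5
      exact hpp.one_lt.ne' (Nat.dvd_one.1 h5)
    obtain ⟨a, ha, hact⟩ := act_of_comm hpp (fun Q hQ => h.comm hds hpF Q hQ) n'
      (U := U.comap (emb hp.inList E.1.subtype)) (hUp.comap_of_injective _ (emb_injective hp.inList _)) (by
        intro u hu
        rw [Subgroup.mem_comap] at hu ⊢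
        rw [map_mul, map_mul, map_inv]
        exact hn _ hu)
    refine ⟨a, ha, fun u hu => ?_⟩
    obtain ⟨u', rfl⟩ := hUE hu
    rw [← map_pow, ← map_mul, ← map_mul, hact u' hu]

end Cfsg.Agent.H28.T5Fus
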