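import Cfsg.Agent.H28.T5Ok
import Cfsg.Agent.H28.T5Fus
import Cfsg.Agent.H28.FamFour
import Cfsg.Agent.H28.OutTw
import Cfsg.Agent.H640.FC.TwFour
import Cfsg.Agent.H533.T5.SporDefs_m3
import Cfsg.Agent.FastGrp
import Cfsg.Agent.Prune
set_option linter.all false
prune_inst 0x7f00000000000000000000000000000000000000000000000000000000000000000000000000000000000000000000000000000000000000000000000000000000000000000000000000000000000000003fffffffffffffffffffffffffffbeffbdffffffff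
open scoped Cfsg.Agent.FastGrp

/-!
# T5 rows: `³D₄(q)` in cross characteristic

* `phi4 a p = gr ^ p * (x ↦ x ^ r ^ a)`, `phi4_pow` : `phi4 a p ^ p = gr * (x ↦ x ^ q)`, `q = r ^ (a p)`;
* `cases4` : the automorphisms of order `p` of `³D₄(q)` which are not inner;
* `outerOk_twD4`, `homOk_twD4`, `wrow_twD4`, `mrow_twD4`.
-/

set_option autoImplicit false
set_option linter.unusedSectionVars false
set_option maxHeartbeats 400000

namespace Cfsg.Agent.H28.T5TwFour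

open Cfsg.Agent.BpExc Cfsg.Agent.BpExc.FamTw Cfsg.Agent.H522.FamTw
open CoxeterSystem Cfsg.Agent.ChevalleyStructure.CoxeterGeom Cfsg.Agent.Tits.Roots Cfsg.Agent.Tits.Core
  Cfsg.Agent.Tits.Exchange Cfsg.Agent.Nodes.Reps Cfsg.Agent.Nodes.BNOf Cfsg.Agent.Nodes.StabComb
  Cfsg.Agent.Nodes.Bruhat Cfsg.Agent.Nodes.OppDec Cfsg.Agent.Nodes.RGDTwGen Cfsg.Agent.Nodes.RGDChev
  Cfsg.Agent.Nodes.RGDFold Cfsg.Agent.Nodes.RGDFoldSL
open Cfsg.Agent.KFacts.RgdOpp Cfsg.Agent.KFacts.RgdAut Cfsg.Agent.KFacts.RgdDiag Cfsg.Agent.KFacts.RgdRigid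
  Cfsg.Agent.KFacts.RgdField Cfsg.Agent.KFacts.RgdTau Cfsg.Agent.KFacts.RgdNodes
open Cfsg.Lie Cfsg.Agent.ChevalleyStructure Cfsg.Agent.ChevalleyStructure.Elts Cfsg.Agent.ChevStructure.FieldMap
open Cfsg.Agent.KFacts.TwDFour.Out
open Cfsg.Agent.Nodes.RGDTwD4 Cfsg.Agent.Nodes.RGDTwNode.D4
open Cfsg.Agent.ChevalleyStructure.GraphSymm (symmD4a)
open Cfsg.Agent.CpAut.RgdFix Cfsg.Agent.CpAut.RgdCoh Cfsg.Agent.CpAut.RgdConj Cfsg.Agent.CpAut.RgdSub
  Cfsg.Agent.CpAut.RgdTwStd Cfsg.Agent.CpAut.RgdTwD4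
open Cfsg.Agent.CpAut.RgdUntw (fld fld_coe fld_pow fld_mul)
open Cfsg.Agent.GpExc.Field (glMap coe_glMap)
open Cfsg.Agent.BpExc.FamTw.Gr
open Cfsg.Agent.KFacts.RgdChevCoord (TT)
open Cfsg.Agent.BpExc.TowChev (LocFin locFin_of_isAlgebraic)
open Cfsg.Agent.BpExc.FamField (frb frb_apply frb_pow pow_apply_of exists_field forall_pow_iff)
open Cfsg.Agent.BpExc.FamUntw (phi phi_pow)
open Cfsg.Agent.BpExc.LangFr (IsFrob)
open Cfsg.Agent.BpExc.RowsUntw (exists_emb)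
open Cfsg.Agent.H28.FamFour (em em_injective coe_em sig_em gr_em fld_em st_mul st_one gr_cube_D4 exists_lift
  tau_pow_eq_one dtau_pow' dtau_unique fr_gr gr_isFrob onSimple gD gD_vec)
open Cfsg.Agent.H533.T5 Cfsg.Agent.H957.T5M Cfsg.Agent.H106.MT
open Cfsg.Agent.H28.T5Ok

universe u

section Phi

variable {L : Type} [Field L] [IsAlgClosed L] {r : ℕ} [Fact r.Prime] [CharP L r]

/-- `gr ^ p * (x ↦ x ^ r ^ a)` -/
noncomputable def phi4 (L : Type) [Field L] [IsAlgClosed L] (r : ℕ) [Fact r.Prime] [CharP L r] (a p : ℕ) :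
    MulAut ↥(chevD4.group L) := gr hD4 symmD4a ^ p * fld chevD4 (frb L r a)

theorem gr_comm (a : ℕ) : Commute (gr (L := L) hD4 symmD4a) (fld chevD4 (frb L r a)) := gr_mul_fld hD4 symmD4a _

theorem phi4_pow {a p : ℕ} (hp3 : p % 3 ≠ 0) :
    phi4 L r a p ^ p = gr hD4 symmD4a * fld chevD4 (frb L r (a * p)) := by
  obtain ⟨t, ht⟩ : ∃ t, p * p = 3 * t + 1 := by
    refine ⟨p * p / 3, ?_⟩
    have h1 : p * p % 3 = 1 := by
      rw [Nat.mul_mod]
      have : p % 3 = 1 ∨ p % 3 = 2 := by omega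
      rcases this with h | h <;> rw [h]
    omega
  unfold phi4
  rw [((gr_comm (L := L) (r := r) a).pow_left p).mul_pow, ← pow_mul, ht, pow_succ, pow_mul, gr_cube_D4, one_pow,
    one_mul, ← fld_pow, frb_pow]

theorem phi4_cube (a p : ℕ) : phi4 L r a p ^ 3 = phi chevD4 L r (a * 3) := by
  unfold phi4
  rw [((gr_comm (L := L) (r := r) a).pow_left p).mul_pow, ← pow_mul, mul_comm p 3, pow_mul, gr_cube_D4, one_pow, one_mul]
  exact phi_pow (D := chevD4) (k := L) (r := r) a 3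

theorem phi4_frob (a p : ℕ) : IsFrob r a (phi4 L r a p) := by
  have h2 := ((gr_isFrob (S := symmD4a) (k := L) Nodes.RGDTwD4.hp r).pow p).mul
    (FamInst.phi_isFrob (D := chevD4) (k := L) r a)
  rwa [mul_zero, zero_add] at h2

end Phi

section Main

variable {K : Type} [Field K] [Fintype K] {q : ℕ} (hq : IsPrimePow q) (hK : Fintype.card K = q ^ 3)
  {r : ℕ} [Fact r.Prime] [CharP K r] (f : K →+* AlgebraicClosure (ZMod r)) {n : ℕ} (hn0 : 0 < n) (hn : q = r ^ n)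
  {p : ℕ} (hpp : p.Prime) (hp5 : 5 ≤ p)

include hpp hp5 in
theorem mod_three : p % 3 ≠ 0 := fun h => by
  have := (Nat.prime_dvd_prime_iff_eq Nat.prime_three hpp).1 (Nat.dvd_of_mod_eq_zero h)
  omega

include hK hn in
/-- `phi4` on `³D₄(q)` -/
theorem phi4_em {φ : K →+* K} (hφ : ∀ x, φ x = x ^ q) {a₀ : ℕ} (ha : a₀ * p = n) (g : ↥(twistedD4 K q)) :
    em q f (st q (frb K r (2 * (p * a₀)) ^ p * frb K r a₀) g) =
      phi4 (AlgebraicClosure (ZMod r)) r a₀ p (em q f g) := by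
  have hΦf : ∀ a, frb (AlgebraicClosure (ZMod r)) r n (f a) = f (φ a) := fun a => by
    rw [frb_apply, hφ, map_pow, hn]
  have hψ : ∀ b : K, φ (frb K r (2 * (p * a₀)) b) = b := by
    intro b
    rw [hφ, frb_apply, hn, ← ha, ← pow_mul, ← pow_add]
    have h1 : 2 * (p * a₀) + a₀ * p = n * 3 := by rw [← ha]; ring
    rw [h1, pow_mul, ← hn, ← hK]
    exact FiniteField.pow_card b
  have hgr : ∀ (m : ℕ) (g : ↥(twistedD4 K q)),
      (gr hD4 symmD4a ^ m) (em q f g) = em q f (st q (frb K r (2 * (p * a₀)) ^ m) g) := by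
    intro m
    induction m with
    | zero => intro g; rw [pow_zero, pow_zero, st_one]; rfl
    | succ m ih =>
      intro g
      rw [pow_succ, MulAut.mul_apply, gr_em hφ hK f hΦf hψ, ih, pow_succ, st_mul]
  unfold phi4
  rw [MulAut.mul_apply, fld_em f (τ := frb K r a₀) (fun b => by rw [frb_apply, frb_apply, map_pow]), hgr, ← st_mul]

include hq hK hn0 hn hpp hp5 in
/-- **The automorphisms of order `p` which are not inner.** -/
theorem cases4 (x : MulAut ↥(twistedD4 K q)) (hx : orderOf x = p) (hxo : ¬ ∃ g, x = MulAut.conj g) :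
    0 < n / p ∧ n / p * p = n ∧ ∃ (i : ℕ) (y : ↥(chevD4.group (AlgebraicClosure (ZMod r)))), i.Coprime p ∧
      ∀ a, em q f ((x ^ i) a) = (MulAut.conj y * phi4 (AlgebraicClosure (ZMod r)) r (n / p) p) (em q f a) := by
  have hk : LocFin (AlgebraicClosure (ZMod r)) := locFin_of_isAlgebraic r _
  obtain ⟨φ, hφ⟩ := D4Fixed.exists_frob hq hK
  obtain ⟨cs', -⟩ : ∃ cs : CoxeterSystem CoxeterMatrix.G₂ CoxeterMatrix.G₂.Group, cs = cs :=
    ⟨CoxeterMatrix.G₂.toCoxeterSystem, rfl⟩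
  have hroot : ∀ a : K, ∃ b : AlgebraicClosure (ZMod r), b ^ 2 = f a := fun a =>
    IsAlgClosed.exists_pow_nat_eq (f a) two_pos
  have hΦf : ∀ a, frb (AlgebraicClosure (ZMod r)) r n (f a) = f (φ a) := fun a => by
    rw [frb_apply, hφ, map_pow, hn]
  have hxp : x ^ p = 1 := by rw [← hx, pow_orderOf_eq_one]
  have hp3 : p ≠ 3 := by omega
  obtain ⟨a, τ, y, S, hy, hxy⟩ := exists_lift hφ hK cs' r f hq.one_lt hroot hΦf x
  have hτp := tau_pow_eq_one hφ hK cs' r S hxp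
  have hcent : ∀ c, (∀ g, c * em q f g = em q f g * c) → c = 1 := fun c hc => FamFour.eq_one_of_comm hφ hK f hc
  by_cases hτ1 : τ = 1
  · exfalso
    subst hτ1
    have hxy' : ∀ g, em q f (x g) = y * em q f g * y⁻¹ := fun g => by rw [hxy, st_one]
    have h1 := H720.TwFr.desc4 f r (H27.Exc.twistedD4_le_group q) hk hn0 hn hK (y := y) hy
    exact hxo (H28.OutTw.inner_of (em_injective f) h1 hxy')
  · have hr : r.Prime := Fact.out
    obtain ⟨i, e, hi, he0, hcard, hfr⟩ := exists_field r hpp hτp hτ1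
    have h3a : n * 3 = e * p := by
      rw [Nat.card_eq_fintype_card, hK, hn, ← pow_mul] at hcard
      exact Nat.pow_right_injective hr.two_le hcard
    have hpa : p ∣ n := by
      have h1 : p ∣ n * 3 := ⟨e, by rw [h3a, mul_comm]⟩
      rcases (Nat.Prime.dvd_mul hpp).1 h1 with h2 | h2
      · exact h2
      · exact absurd ((Nat.prime_dvd_prime_iff_eq hpp Nat.prime_three).1 h2) hp3
    obtain ⟨a₀, ha₀⟩ := hpa
    have e1 : n / p = a₀ := by rw [ha₀, Nat.mul_div_cancel_left _ hpp.pos]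
    have ha : a₀ * p = n := by rw [ha₀, mul_comm]
    rw [e1]
    have hea : e = 3 * a₀ := by
      have h1 : p * (3 * a₀) = p * e := by rw [mul_comm p e, ← h3a, ha₀]; ring
      exact (Nat.eq_of_mul_eq_mul_left hpp.pos h1).symm
    subst hea
    have ha0 : 0 < a₀ := by
      rcases Nat.eq_zero_or_pos a₀ with h0 | h0
      · rw [h0] at he0
        exact absurd he0 (by norm_num)
      · exact h0
    obtain ⟨t, hjt⟩ : ∃ t : ℕ, p * p = 3 * t + 1 := by
      have h0 := mod_three hpp hp5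
      refine ⟨p * p / 3, ?_⟩
      have h1 : p * p % 3 = 1 := by
        rw [Nat.mul_mod]
        have : p % 3 = 1 ∨ p % 3 = 2 := by omega
        rcases this with h | h <;> rw [h]
      omega
    obtain ⟨s, hs⟩ : ∃ s : ℕ, s = 2 * t + 1 := ⟨_, rfl⟩
    have hs3 : 3 * s = 1 + 2 * (p * p) := by rw [hjt, hs]; ring
    have hsp : s.Coprime p := by
      refine ((Nat.Prime.coprime_iff_not_dvd hpp).2 fun h1 => ?_).symm
      have h2 : p ∣ 1 + 2 * (p * p) := by rw [← hs3]; exact h1.mul_left 3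
      have h3 : p ∣ 2 * (p * p) := ⟨2 * p, by ring⟩
      exact hpp.one_lt.ne' (Nat.dvd_one.1 ((Nat.dvd_add_left h3).1 h2))
    have hperfK : PerfectRing K r := inferInstance
    have hτs : frb K r (2 * (p * a₀)) ^ p * frb K r a₀ = τ ^ (i * s) := by
      apply RingEquiv.ext
      intro b
      rw [pow_mul, pow_apply_of hfr, frb_pow, RingAut.mul_apply, frb_apply, frb_apply, ← pow_mul, ← pow_add]
      congr 2
      have h1 : 3 * a₀ * s = (3 * s) * a₀ := by ring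
      rw [h1, hs3]
      ring
    obtain ⟨a', τ', y', S', hy', hxy'⟩ := exists_lift hφ hK cs' r f hq.one_lt hroot hΦf (x ^ (i * s))
    obtain ⟨b, hb⟩ := dtau_pow' hφ hK S (i * s)
    have hττ : τ' = τ ^ (i * s) := dtau_unique hφ hK cs' r S' hb
    subst hττ
    refine ⟨ha0, ha, i * s, y', Nat.Coprime.mul_left hi hsp, fun g => ?_⟩
    rw [hxy', ← hτs, MulAut.mul_apply, MulAut.conj_apply, phi4_em hK f hn hφ ha]

include hq hK hn0 hn hpp hp5 in
/-- **The frame.** -/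
theorem std4 {m : ℕ} (hm : 0 < m) (hmn : m * p = n) :
    T5Mid.Std p (em q f) (gr hD4 symmD4a * fld chevD4 (frb (AlgebraicClosure (ZMod r)) r n))
      (phi4 (AlgebraicClosure (ZMod r)) r m p) := by
  have hk : LocFin (AlgebraicClosure (ZMod r)) := locFin_of_isAlgebraic r _
  obtain ⟨φ, hφ⟩ := D4Fixed.exists_frob hq hK
  have hΦf : ∀ a, frb (AlgebraicClosure (ZMod r)) r n (f a) = f (φ a) := fun a => by
    rw [frb_apply, hφ, map_pow, hn]
  refine ⟨em_injective f, fun z hz => FamFour.eq_one_of_comm hφ hK f hz, fun a => sig_em hφ hK f hΦf a, ?_,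
    fun h => ?_, fun u hu => ?_⟩
  · rw [phi4_pow (mod_three hpp hp5), hmn]
  · obtain ⟨g1, hg1, -⟩ := (fr_gr Nodes.RGDTwD4.hp coxeterD4.toCoxeterSystem onSimple gD_vec hk r (m := 2)
      gr_cube_D4).pow p
    obtain ⟨z, hz⟩ := Cfsg.Agent.BpExc.LangFr.lang_all Nodes.RGDTwD4.hp coxeterD4.toCoxeterSystem hm
      (phi4_frob (L := AlgebraicClosure (ZMod r)) (r := r) m p)
      (hg1.mul (FamInst.fr_fld Nodes.RGDTwD4.hp coxeterD4.toCoxeterSystem hk r _)) 1 h
    rw [map_one, one_mul] at hz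
    exact ⟨z, hz⟩
  · obtain ⟨s, hs⟩ := H720.TwFr.desc4 f r (H27.Exc.twistedD4_le_group q) hk hn0 hn hK (y := u) hu
    exact ⟨1, s, map_one _, by rw [one_mul]; exact hs.symm⟩

include hq hK hn0 hn hpp hp5 in
theorem outerOk4 (hpr : p ≠ r) : OuterOk p ↥(twistedD4 K q) := by
  refine OuterOk.of_exists fun hex => ?_
  have : Fact p.Prime := ⟨hpp⟩
  obtain ⟨x₀, hx₀, hxo₀⟩ := hex
  obtain ⟨f⟩ := exists_emb r K
  obtain ⟨hm0, hmn, -⟩ := cases4 hq hK f hn0 hn hpp hp5 x₀ hx₀ hxo₀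
  obtain ⟨m, hm⟩ : ∃ m, m = n / p := ⟨_, rfl⟩
  rw [← hm] at hm0 hmn
  obtain ⟨φ, hφ⟩ := D4Fixed.exists_frob hq hK
  have hS := std4 hq hK f hn0 hn hpp hp5 hm0 hmn
  have hperf : PerfectRing K r := inferInstance
  have hcard : Nat.card K = r ^ (3 * n) := by
    rw [Nat.card_eq_fintype_card, hK, hn, ← pow_mul, mul_comm]
  have hτe : frb K r (2 * (p * m)) ^ p * frb K r m = frb K r (2 * (p * m) * p + m) := by
    apply RingEquiv.ext
    intro b
    rw [frb_pow, RingAut.mul_apply, frb_apply, frb_apply, frb_apply, ← pow_mul, ← pow_add, add_comm]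
  obtain ⟨t, ht⟩ : ∃ t, p * p = 3 * t + 1 := by
    have h0 := mod_three hpp hp5
    refine ⟨p * p / 3, ?_⟩
    have h1 : p * p % 3 = 1 := by
      rw [Nat.mul_mod]
      have : p % 3 = 1 ∨ p % 3 = 2 := by omega
      rcases this with h | h <;> rw [h]
    omega
  have hτp : (frb K r (2 * (p * m)) ^ p * frb K r m) ^ p = 1 := by
    rw [hτe, frb_pow]
    ext a
    rw [frb_apply, (forall_pow_iff r hcard _).2 ?_ a]
    · rfl
    · refine ⟨2 * t + 1, ?_⟩
      calc (2 * (p * m) * p + m) * p = (2 * (p * p) + 1) * (m * p) := by ring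
        _ = 3 * n * (2 * t + 1) := by rw [ht, hmn]; ring
  have hcases : ∀ x : MulAut ↥(twistedD4 K q), orderOf x = p → (¬ ∃ g, x = MulAut.conj g) →
      ∃ (i : ℕ) (y : ↥(chevD4.group (AlgebraicClosure (ZMod r)))), i.Coprime p ∧
      ∀ a, em q f ((x ^ i) a) = (MulAut.conj y * phi4 (AlgebraicClosure (ZMod r)) r m p) (em q f a) := by
    intro x hx hxo
    obtain ⟨-, -, h⟩ := cases4 hq hK f hn0 hn hpp hp5 x hx hxo
    rwa [← hm] at h
  refine OuterOk.of_std hpp hS (phi4_em hK f hn hφ hmn) (fun hdvd => ?_) hcases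
  have hτ1 : frb K r (2 * (p * m)) ^ p * frb K r m ≠ 1 := by
    intro h1
    obtain ⟨i, y, hi, hy⟩ := hcases x₀ hx₀ hxo₀
    have hxp : x₀ ^ p = 1 := by rw [← hx₀, pow_orderOf_eq_one]
    obtain ⟨s, hs⟩ := hS.conj (by rw [← pow_mul, mul_comm, pow_mul, hxp, one_pow]) hy
    have h2 : MulAut.conj s * x₀ ^ i * (MulAut.conj s)⁻¹ = 1 := MulEquiv.ext fun a => hS.inj (by
      rw [hs, ← phi4_em hK f hn hφ hmn, h1, st_one]
      rfl)
    have h3 : x₀ ^ i = 1 := by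
      have h4 : x₀ ^ i = (MulAut.conj s)⁻¹ * (MulAut.conj s * x₀ ^ i * (MulAut.conj s)⁻¹) * MulAut.conj s := by group
      rw [h4, h2]
      group
    have h4 : p ∣ i := by rw [← hx₀]; exact orderOf_dvd_of_pow_eq_one h3
    exact (Nat.Prime.coprime_iff_not_dvd hpp).1 hi.symm h4
  obtain ⟨N, h1, h2, h3, h4, -, h5, -⟩ := H640.FC.TwFour.good_st r hq hK hpp hp5 hpr hτp hτ1 hdvd
  exact ⟨N, h1, h2, h3, h4, h5⟩

include hpp hp5 in
theorem ndvd4 : ∀ x ∈ [2, 4, 4, 6], ¬ p ∣ x := by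
  intro x hx h1
  have h2 : ∀ x ∈ [2, 4, 4, 6], x ∣ (Nat.factorial 4) ^ 3 := by decide
  have h3 := (hpp.dvd_factorial).1 (hpp.dvd_of_dvd_pow (h1.trans (h2 x hx)))
  omega

include hq hK hpp hp5 in
/-- the `p`-subgroups are commutative -/
theorem comm4 (hpr : p ≠ r) (E : Subgroup ↥(twistedD4 K q)) (hE : IsPGroup p E) :
    ∀ a ∈ E, ∀ b ∈ E, a * b = b * a := by
  have : Fact p.Prime := ⟨hpp⟩
  have hpK : ¬ p ∣ Fintype.card K := by
    obtain ⟨j, hj⟩ := FiniteField.card K r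
    rw [hj.2]
    intro h
    exact hpr ((Nat.prime_dvd_prime_iff_eq hpp (Fact.out : r.Prime)).1 (hpp.dvd_of_dvd_pow h))
  obtain ⟨ι, hι⟩ : ∃ ι : ↥(twistedD4 K q) →* ↥(chevD4.group K), Function.Injective ι :=
    ⟨_, Subgroup.inclusion_injective (FamFour.twisted_le_group q)⟩
  intro a ha b hb
  have h1 := H172.SI.deg_D4.comm (p := p) (ndvd4 hpp hp5) hpK (E.map ι) (hE.map _) _ (Subgroup.mem_map_of_mem _ ha) _
    (Subgroup.mem_map_of_mem _ hb)
  rw [← map_mul, ← map_mul] at h1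
  exact hι h1

include hq hK hn0 hn hpp hp5 in
theorem homOk4 (hpr : p ≠ r) : HomOk p ↥(twistedD4 K q) := by
  intro x hx hxo
  obtain ⟨f⟩ := exists_emb r K
  obtain ⟨hm0, hmn, -⟩ := cases4 hq hK f hn0 hn hpp hp5 x hx hxo
  have hk : LocFin (AlgebraicClosure (ZMod r)) := locFin_of_isAlgebraic r _
  have hS := std4 hq hK f hn0 hn hpp hp5 hm0 hmn
  refine HomOk.of_std hpp hS (H28.T5Fus.fus Nodes.RGDTwD4.hp hk (r := r) H172.SI.deg_D4 hpp hpr (ndvd4 hpp hp5))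
    (s := 3) (Q := r ^ (n / p * 3)) ((Nat.coprime_primes Nat.prime_three hpp).2 (by omega)) (fun h => hpr
      ((Nat.prime_dvd_prime_iff_eq hpp (Fact.out : r.Prime)).1 (hpp.dvd_of_dvd_pow h))) (fun t ht => ?_)
    (comm4 hq hK hpp hp5 hpr) (fun x hx hxo => (cases4 hq hK f hn0 hn hpp hp5 x hx hxo).2.2) x hx hxo
  rw [phi4_cube]
  exact H28.T5Fus.phi_TT Nodes.RGDTwD4.hp _ ht

end Main

/-! ### the rows -/

section Rows

variable {S : Type u} [Group S] {K : Type} [Field K] [Fintype K] {q : ℕ} (hq : IsPrimePow q)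
  (hK : Fintype.card K = q ^ 3) {p : ℕ} (hpp : p.Prime) (hp5 : 5 ≤ p) (hpq : ¬ p ∣ q) (e : S ≃* ↥(twistedD4 K q))

include hq hK hpp hpq in
theorem exists_num : ∃ r n : ℕ, ∃ _ : Fact r.Prime, ∃ _ : CharP K r, 0 < n ∧ q = r ^ n ∧ p ≠ r := by
  obtain ⟨r, hr⟩ := CharP.exists K
  have : Fact r.Prime := ⟨CharP.char_is_prime K r⟩
  obtain ⟨n, hn0, hn⟩ := H27.Exc.exists_pow (r := r) three_pos hq hK
  refine ⟨r, n, this, hr, hn0, hn, ?_⟩
  rintro rfl
  apply hpq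
  rw [hn]
  exact dvd_pow_self _ hn0.ne'

include hq hK hpp hp5 hpq e in
theorem outerOk_twD4 : OuterOk p S := by
  obtain ⟨r, n, _, _, hn0, hn, hpr⟩ := exists_num hq hK hpp hpq
  exact OuterOk.congr e (outerOk4 hq hK hn0 hn hpp hp5 hpr)

include hq hK hpp hp5 hpq e in
theorem homOk_twD4 : HomOk p S := by
  obtain ⟨r, n, _, _, hn0, hn, hpr⟩ := exists_num hq hK hpp hpq
  exact HomOk.congr e (homOk4 hq hK hn0 hn hpp hp5 hpr)

include hq hK hpp hp5 hpq e in
/-- **The middle row of `³D₄(q)`, `p ≥ 5`.** -/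
theorem mrow_twD4 [Finite S] (hAA : AAHyp.{u} p)
    (hin : ∀ x y : S, orderOf x = p → orderOf y = p → MPair p (⊤ : Subgroup S) x y) : MRow p S := by
  obtain ⟨hs, hna⟩ := Cfsg.Agent.S1071.result hq hK
  have := e.isSimpleGroup
  refine mrow_of_ok hAA hpp (fun hc => hna ⟨⟨fun a b => e.symm.injective ?_⟩⟩)
    (outerOk_twD4 hq hK hpp hp5 hpq e) (homOk_twD4 hq hK hpp hp5 hpq e) hin
  rw [map_mul, map_mul]
  exact hc.is_comm.comm _ _

end Rows

end Cfsg.Agent.H28.T5TwFour
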