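import Cfsg.Agent.H77.E4Poly_m3
import Cfsg.Agent.H378.SmallTor_m3
import Cfsg.Agent.H172.SIComm
import Cfsg.Agent.H172.SINum
import Cfsg.Agent.H493.PGE7_m3
import Cfsg.Agent.H493.PGE8
import Cfsg.Agent.H378.TwAdj
import Cfsg.Agent.S1066
import Cfsg.Agent.H129.MulFast
import Cfsg.Agent.FastGrp
import Cfsg.Agent.Prune
set_option linter.all false
prune_inst 0x7f00000000000000000000000000000000000000000000000000000000000000000000000000000000000000000000000000000000000000000000000000000000000000000000000000000000000000003fffffffffffffffffffffffffffbeffbdffffffff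
open scoped Cfsg.Agent.FastGrp

-- part: H28/T5Tor
section
/-!
# Commutative Sylow subgroups from maximal tori (T5)

* `sylow_comm` : a commutative subgroup of exponent `ℓ ^ a` and order at least the `ℓ`-part of `|S|`: the Sylow
  `ℓ`-subgroups are commutative;
* `exists_fam` : `m ^ r` elements of order dividing `m` in a (twisted) torus, from `r` eigenfunctionals modulo `m`;
* `comm_of_eig` : the Sylow `ℓ`-subgroups are commutative if `|S|_ℓ ≤ (f(q)_ℓ) ^ r`.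
-/

set_option autoImplicit false
set_option linter.unusedSectionVars false

namespace Cfsg.Agent.H28.T5Tor

open CoxeterSystem Cfsg Cfsg.Lie Cfsg.Lie.ChevalleyDatum
open Cfsg.Agent.ChevalleyStructure Cfsg.Agent.ChevalleyStructure.Elts Cfsg.Agent.ChevalleyStructure.CoxeterGeom
  Cfsg.Agent.ChevalleyStructure.CoxeterGeomTypes Cfsg.Agent.ChevalleyStructure.NPerm
open Cfsg.Agent.Tits.Roots Cfsg.Agent.Tits.Core Cfsg.Agent.Nodes Cfsg.Agent.Nodes.Reps Cfsg.Agent.Nodes.BNOf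
  Cfsg.Agent.Nodes.RGDChev Cfsg.Agent.Nodes.Bruhat Cfsg.Agent.Nodes.SubComb Cfsg.Agent.Nodes.Coroot
open Cfsg.Agent.KFacts.RgdField Cfsg.Agent.KFacts.RgdChevCoord Cfsg.Agent.BpExc.TorCent Cfsg.Agent.BpExc.TorChev
open Cfsg.Agent.GpExc.Field Cfsg.Agent.BpExc.Tow Cfsg.Agent.BpExc.TowChev Cfsg.Agent.BpExc.Fr
  Cfsg.Agent.BpExc.LangFr Cfsg.Agent.LangThm Cfsg.Agent.BpExc Cfsg.Agent.H129.TorusChar Cfsg.Agent.H129.TorusCent
  Cfsg.Agent.H129.TorusTw Cfsg.Agent.H129.TorusMain Cfsg.Agent.H493.PGTorus Cfsg.Agent.H493.PGTwist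

universe u

/-- A large commutative `ℓ`-subgroup: the Sylow `ℓ`-subgroups are commutative. -/
theorem sylow_comm {S : Type*} [Group S] [Finite S] {ℓ : ℕ} [hℓ : Fact ℓ.Prime] {a : ℕ} (A : Subgroup S)
    (hA : ∀ x ∈ A, ∀ y ∈ A, x * y = y * x) (hAp : ∀ x ∈ A, x ^ ℓ ^ a = 1)
    (hcard : ℓ ^ (Nat.card S).factorization ℓ ≤ Nat.card A) (P : Sylow ℓ S) : IsMulCommutative (P : Subgroup S) := by
  have hAl : IsPGroup ℓ A := fun x => ⟨a, Subtype.ext (hAp x x.2)⟩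
  obtain ⟨Q, hQ⟩ := hAl.exists_le_sylow
  have h1 : A = (Q : Subgroup S) := by
    refine Subgroup.eq_of_le_of_card_ge hQ ?_
    rw [Q.card_eq_multiplicity]
    exact hcard
  obtain ⟨g, hg⟩ := MulAction.exists_smul_eq S Q P
  have h2 : ∀ x ∈ (P : Subgroup S), g⁻¹ * x * g ∈ A := by
    intro x hx
    rw [← hg, Sylow.coe_subgroup_smul, Subgroup.mem_pointwise_smul_iff_inv_smul_mem] at hx
    rw [h1]
    simpa [MulAut.smul_def, MulAut.conj_inv_apply] using hx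
  refine ⟨⟨fun x y => Subtype.ext ?_⟩⟩
  have h3 := hA _ (h2 x x.2) _ (h2 y y.2)
  have h4 : (x : S) * y = g * (g⁻¹ * x * g * (g⁻¹ * y * g)) * g⁻¹ := by group
  have h5 : (y : S) * x = g * (g⁻¹ * y * g * (g⁻¹ * x * g)) * g⁻¹ := by group
  show (x : S) * y = (y : S) * x
  rw [h4, h5, h3]

section Main

variable {D : ChevalleyDatum} {l : ℕ} {M : CoxeterMatrix (Fin l)} (hp : IsType D l M) {k : Type u} [Field k]
  [IsAlgClosed k] {W : Type*} [Group W] [Finite W] (cs : CoxeterSystem M W) {p e : ℕ} [Fact p.Prime] [CharP k p]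
  {σ : MulAut ↥(D.group k)} {g : (Fin l → ℤ) ≃+ (Fin l → ℤ)}
  {G0 : Type*} [Group G0] {e0 : G0 →* ↥(D.group k)}

/-- **Torus elements from eigenfunctionals modulo `m`.** -/
theorem exists_fam (hσ : IsFrob p e σ) (F : Fr cs hp.isCartan (TT D k) (XX D l k) σ g) {d' : ℕ}
    {B' : Fin l → Fin l → ℤ} (hB : InvC D l d' B') (hd' : d' ≠ 0) {r : ℕ} {L : Fin r → (Fin l → ℤ) →+ ℤ} {m : ℕ}
    (hm0 : m ≠ 0) (hmp : ¬ p ∣ m) (hL : ∀ i x, (m : ℤ) ∣ L i (g x) - ((p ^ e : ℕ) : ℤ) * L i x)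
    {x₀ : Fin r → Fin l → ℤ} (hx₀ : ∀ i j, L i (x₀ j) = if i = j then 1 else 0) :
    ∃ T : (Fin r → Fin m) → ↥(D.group k), Function.Injective T ∧
      ∀ j, T j ∈ TT D k ∧ σ (T j) = T j ∧ T j ^ m = 1 := by
  have hrk : (m : k) ≠ 0 := by
    rw [Ne, CharP.cast_eq_zero_iff k p]
    exact hmp
  have : NeZero (m : k) := ⟨hrk⟩
  obtain ⟨u, hu⟩ := HasEnoughRootsOfUnity.exists_primitiveRoot k m
  have hu0 : u ≠ 0 := hu.ne_zero hm0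
  have hone : ∀ z : ℤ, u ^ z = 1 ↔ (m : ℤ) ∣ z := fun z => hu.zpow_eq_one_iff_dvd z
  have key : ∀ j : Fin r → Fin m, ∃ t ∈ TT D k, ∀ x, cX hp t x = u ^ (∑ i, ((j i : ℕ) : ℤ) * L i x) := by
    intro j
    have hMC : IsMC (fun x : Fin l → ℤ => u ^ (∑ i, ((j i : ℕ) : ℤ) * L i x)) :=
      ⟨by
        have h1 : ∑ i, ((j i : ℕ) : ℤ) * L i 0 = 0 := Finset.sum_eq_zero fun i _ => by rw [map_zero, mul_zero]
        show u ^ _ = 1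
        rw [h1, zpow_zero],
      fun x y => by
        have h1 : ∑ i, ((j i : ℕ) : ℤ) * L i (x + y) =
            (∑ i, ((j i : ℕ) : ℤ) * L i x) + ∑ i, ((j i : ℕ) : ℤ) * L i y := by
          rw [← Finset.sum_add_distrib]
          exact Finset.sum_congr rfl fun i _ => by rw [map_add, mul_add]
        show u ^ _ = u ^ _ * u ^ _
        rw [h1, zpow_add₀ hu0]⟩
    obtain ⟨t, ht, hcX⟩ := exists_cX hp hB hd' hMC fun i =>
      IsAlgClosed.exists_pow_nat_eq _ (Nat.pos_of_ne_zero hd')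
    exact ⟨t, ht, hcX⟩
  choose T hT hcX using key
  refine ⟨T, fun j j' hj => funext fun i => Fin.ext ?_, fun j => ⟨hT j, ?_, ?_⟩⟩
  · have h1 : ∀ j : Fin r → Fin m, ∑ i', ((j i' : ℕ) : ℤ) * L i' (x₀ i) = ((j i : ℕ) : ℤ) := by
      intro j
      rw [Finset.sum_eq_single i]
      · rw [hx₀, if_pos rfl, mul_one]
      · intro i' _ hne
        rw [hx₀, if_neg hne, mul_zero]
      · intro h
        exact absurd (Finset.mem_univ i) h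
    have h2 := hcX j (x₀ i)
    rw [hj, hcX j', h1, h1] at h2
    have h3 : u ^ (j' i : ℕ) = u ^ (j i : ℕ) := by exact_mod_cast h2
    exact (hu.pow_inj (j' i).2 (j i).2 h3).symm
  · have hσt : σ (T j) ∈ TT D k := (F.tor _).2 (hT j)
    refine cX_inj hp hσt (hT j) fun i => ?_
    have h1 : sr i = g (g.symm (sr i)) := (g.apply_symm_apply _).symm
    rw [h1, cX_sigma hp cs hσ F (hT j), hcX, hcX, ← zpow_natCast, ← zpow_mul]
    have h2 : (m : ℤ) ∣ (∑ i', ((j i' : ℕ) : ℤ) * L i' (g (g.symm (sr i)))) -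
        (∑ i', ((j i' : ℕ) : ℤ) * L i' (g.symm (sr i))) * ((p ^ e : ℕ) : ℤ) := by
      rw [Finset.sum_mul, ← Finset.sum_sub_distrib]
      refine Finset.dvd_sum fun i' _ => ?_
      obtain ⟨N, hN⟩ := hL i' (g.symm (sr i))
      refine ⟨((j i' : ℕ) : ℤ) * N, ?_⟩
      calc _ = ((j i' : ℕ) : ℤ) * (L i' (g (g.symm (sr i))) - ((p ^ e : ℕ) : ℤ) * L i' (g.symm (sr i))) := by ring
        _ = _ := by rw [hN]; ring
    obtain ⟨N, hN⟩ := h2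
    rw [← sub_add_cancel (∑ i', ((j i' : ℕ) : ℤ) * L i' (g (g.symm (sr i))))
      ((∑ i', ((j i' : ℕ) : ℤ) * L i' (g.symm (sr i))) * ((p ^ e : ℕ) : ℤ)), hN, zpow_add₀ hu0,
      (hone ((m : ℤ) * N)).2 (dvd_mul_right _ _), one_mul]
  · refine cX_inj hp (pow_mem (hT j) m) (one_mem _) fun i => ?_
    rw [cX_pow hp (hT j), cX_one, hcX, ← zpow_natCast, ← zpow_mul, hone]
    exact dvd_mul_left _ _

/-- **Commutative Sylow subgroups from a torus.** -/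
theorem comm_of_eig [Finite G0] (hk : LocFin k) (he : 0 < e) (hσ : IsFrob p e σ)
    (F : Fr cs hp.isCartan (TT D k) (XX D l k) σ g) {d' : ℕ} {B' : Fin l → Fin l → ℤ} (hB : InvC D l d' B')
    (hd' : d' ≠ 0) (he0 : Function.Injective e0) {d : ℕ} (hd : ∀ y, σ y = y → y ^ d ∈ e0.range)
    {w : W} {Th : Fin l → Fin l → ℤ} (hw : ∀ j, rep cs hp.isCartan w (g (sr j)) = Th j)
    {f : ℕ} {c : Fin (f + 1) → ℤ} {r : ℕ} {V : Fin r → Fin (f + 1) → Fin l → ℤ} {U : Fin r → Fin l → ℤ}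
    (h : ∀ i, EigOK (fun i j => Th j i) c (V i) (U i)) (hUV : ∀ i j, i ≠ j → ∀ s, ∑ m, U j m * V i s m = 0)
    {ℓ : ℕ} [hℓ : Fact ℓ.Prime] (hℓd : ¬ ℓ ∣ d) (hℓp : ℓ ≠ p) {a : ℕ}
    (ha : ((ℓ ^ a : ℕ) : ℤ) ∣ pv c ((p ^ e : ℕ) : ℤ)) (hcard : (Nat.card G0).factorization ℓ ≤ a * r)
    (P : Sylow ℓ G0) : IsMulCommutative (P : Subgroup G0) := by
  have hm0 : ℓ ^ a ≠ 0 := pow_ne_zero _ hℓ.out.ne_zero
  have hcop : (ℓ ^ a).Coprime d := ((Nat.Prime.coprime_iff_not_dvd hℓ.out).2 hℓd).pow_left a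
  obtain ⟨n, z, hz, hσ', F'⟩ := exists_z hp cs hk he hσ F w
  have hmp : ¬ p ∣ ℓ ^ a := fun h1 =>
    hℓp ((Nat.prime_dvd_prime_iff_eq (Fact.out : p.Prime) hℓ.out).1 ((Fact.out : p.Prime).dvd_of_dvd_pow h1)).symm
  obtain ⟨T, hTi, hT⟩ := exists_fam hp cs hσ' F' hB hd' (L := fun i => lam (V i) ((p ^ e : ℕ) : ℤ)) hm0 hmp
    (fun i x => hL_of_eig hp cs hw (h i) ha x) (x₀ := U) (fun i j => by
      by_cases hij : i = j
      · subst hij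
        rw [if_pos rfl]
        exact lam_unit (h i) _
      · rw [if_neg hij]
        exact lam_zero (hUV i j hij) _)
  have hcommT : ∀ x y : G0, z⁻¹ * e0 x * z ∈ TT D k → z⁻¹ * e0 y * z ∈ TT D k → x * y = y * x := by
    intro x y hx hy
    apply he0
    have h1 := TT_comm hp _ hx _ hy
    have h2 : e0 x * e0 y = z * (z⁻¹ * e0 x * z * (z⁻¹ * e0 y * z)) * z⁻¹ := by group
    have h3 : e0 y * e0 x = z * (z⁻¹ * e0 y * z * (z⁻¹ * e0 x * z)) * z⁻¹ := by group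
    rw [map_mul, map_mul, h2, h3, h1]
  let A : Subgroup G0 :=
    { carrier := {x | z⁻¹ * e0 x * z ∈ TT D k ∧ x ^ ℓ ^ a = 1}
      mul_mem' := by
        rintro x y ⟨hx, hx'⟩ ⟨hy, hy'⟩
        refine ⟨?_, ?_⟩
        · have h1 : z⁻¹ * e0 (x * y) * z = z⁻¹ * e0 x * z * (z⁻¹ * e0 y * z) := by
            rw [map_mul]
            group
          rw [h1]
          exact mul_mem hx hy
        · have h1 : Commute x y := hcommT x y hx hy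
          rw [h1.mul_pow, hx', hy', one_mul]
      one_mem' := ⟨by rw [map_one, mul_one, inv_mul_cancel]; exact one_mem _, one_pow _⟩
      inv_mem' := by
        rintro x ⟨hx, hx'⟩
        refine ⟨?_, by rw [inv_pow, hx', inv_one]⟩
        have h1 : z⁻¹ * e0 x⁻¹ * z = (z⁻¹ * e0 x * z)⁻¹ := by
          rw [map_inv]
          group
        rw [h1]
        exact inv_mem hx }
  have hex : ∀ j : Fin r → Fin (ℓ ^ a), ∃ x : G0, e0 x = z * T j ^ d * z⁻¹ := by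
    intro j
    obtain ⟨x, hx⟩ := hd _ (fix_conj hz (hT j).2.1)
    exact ⟨x, by rw [hx, conj_pow]⟩
  choose X hX using hex
  have hXA : ∀ j, X j ∈ A := by
    intro j
    refine ⟨?_, he0 ?_⟩
    · have h1 : z⁻¹ * e0 (X j) * z = T j ^ d := by
        rw [hX]
        group
      rw [h1]
      exact pow_mem (hT j).1 d
    · rw [map_pow, hX, conj_pow, ← pow_mul, mul_comm d, pow_mul, (hT j).2.2, one_pow, mul_one, mul_inv_cancel, map_one]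
  have hXi : Function.Injective (fun j => (⟨X j, hXA j⟩ : ↥A)) := by
    intro j j' hjj
    apply hTi
    have h1 : X j = X j' := congrArg Subtype.val hjj
    have h2 : T j ^ d = T j' ^ d := by
      have h3 : z * T j ^ d * z⁻¹ = z * T j' ^ d * z⁻¹ := by rw [← hX, ← hX, h1]
      exact mul_left_cancel (mul_right_cancel h3)
    have hc : Commute (T j) (T j')⁻¹ := (show Commute (T j) (T j') from TT_comm hp _ (hT j).1 _ (hT j').1).inv_right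
    have h3 : orderOf (T j * (T j')⁻¹) ∣ Nat.gcd (ℓ ^ a) d := by
      refine Nat.dvd_gcd (orderOf_dvd_of_pow_eq_one ?_) (orderOf_dvd_of_pow_eq_one ?_)
      · rw [hc.mul_pow, inv_pow, (hT j).2.2, (hT j').2.2, inv_one, one_mul]
      · rw [hc.mul_pow, inv_pow, h2, mul_inv_cancel]
    rw [hcop, Nat.dvd_one, orderOf_eq_one_iff] at h3
    exact mul_inv_eq_one.1 h3
  refine sylow_comm (a := a) A (fun x hx y hy => hcommT x y hx.1 hy.1) (fun x hx => hx.2) ?_ P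
  have h1 := Nat.card_le_card_of_injective _ hXi
  rw [Nat.card_fun, Nat.card_eq_fintype_card, Nat.card_eq_fintype_card, Fintype.card_fin, Fintype.card_fin,
    ← pow_mul] at h1
  exact (Nat.pow_le_pow_right hℓ.out.pos hcard).trans h1

end Main

end Cfsg.Agent.H28.T5Tor
end

-- part: H28/T5TorRows
section
/-!
# Commutative Sylow `5`- and `7`-subgroups of `E₆(q)`, `²E₆(q)`, `E₇(q)`, `E₈(q)`

* `5 ∣ q² + 1` : `E₆(q)`, `²E₆(q)`, `E₇(q)`;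
* `7 ∣ q² + q + 1` and `7 ∣ q² - q + 1` : `E₇(q)`, `E₈(q)`.
-/

set_option autoImplicit false
set_option linter.unusedSectionVars false

namespace Cfsg.Agent.H28.T5TorRows

open CoxeterSystem Cfsg Cfsg.Lie Cfsg.Lie.ChevalleyDatum
open Cfsg.Agent.ChevalleyStructure Cfsg.Agent.ChevalleyStructure.Elts Cfsg.Agent.ChevalleyStructure.CoxeterGeom
  Cfsg.Agent.ChevalleyStructure.CoxeterGeomTypes Cfsg.Agent.ChevalleyStructure.NPerm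
open Cfsg.Agent.Tits.Roots Cfsg.Agent.Tits.Core Cfsg.Agent.Nodes Cfsg.Agent.Nodes.Reps Cfsg.Agent.Nodes.BNOf
  Cfsg.Agent.Nodes.RGDChev Cfsg.Agent.Nodes.Bruhat Cfsg.Agent.Nodes.SubComb Cfsg.Agent.Nodes.Coroot
open Cfsg.Agent.BpExc.Tow Cfsg.Agent.BpExc.TowChev Cfsg.Agent.BpExc.FamExt Cfsg.Agent.BpExc.FamUntw
  Cfsg.Agent.BpExc.FamInst Cfsg.Agent.BpExc.LangFr Cfsg.Agent.BpExc.FamField Cfsg.Agent.BpExc.Fr
open Cfsg.Agent.GpExc.Field (emb emb_injective)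
open Cfsg.Agent.H129.WData Cfsg.Agent.H493.PGTorus Cfsg.Agent.H493.PGTwist Cfsg.Agent.H378.CycTab
open Cfsg.Agent.H28.T5Tor

universe u

/-- the tables -/
def TabOK {l f r : ℕ} (Th : Mat l) (c : Fin (f + 1) → ℤ) (V : Fin r → Fin (f + 1) → Fin l → ℤ)
    (U : Fin r → Fin l → ℤ) : Prop :=
  (∀ i, EigOK (fun i j => Th j i) c (V i) (U i)) ∧ ∀ i j, i ≠ j → ∀ s, ∑ m, U j m * V i s m = 0

instance decTabOK {l f r : ℕ} (Th : Mat l) (c : Fin (f + 1) → ℤ) (V : Fin r → Fin (f + 1) → Fin l → ℤ)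
    (U : Fin r → Fin l → ℤ) : Decidable (TabOK Th c V U) := by
  unfold TabOK; infer_instance

/-- the matrix of a product -/
def MulOK {l : ℕ} (T T' T'' : Mat l) : Prop := ∀ j m, T'' j m = ∑ n, T' j n * T n m

instance decMulOK {l : ℕ} (T T' T'' : Mat l) : Decidable (MulOK T T' T'') := by
  unfold MulOK; infer_instance

section Rows

variable {D : ChevalleyDatum} {l : ℕ} {M : CoxeterMatrix (Fin l)} (hp : IsType D l M) {W : Type*} [Group W]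
  [Finite W] (cs : CoxeterSystem M W)

theorem rows_mul {w w' : W} {T T' T'' : Mat l} (h : ∀ j, rep cs hp.isCartan w (sr j) = T j)
    (h' : ∀ j, rep cs hp.isCartan w' (sr j) = T' j) (hm : MulOK T T' T'') (j : Fin l) :
    rep cs hp.isCartan (w * w') (sr j) = T'' j := by
  funext m
  rw [map_mul, Module.End.mul_apply, h', rep_apply_eq hp cs h, hm]

end Rows

/-! ### the numbers -/

section Num

open Cfsg.Agent.H172.SI

variable {ℓ : ℕ} [hℓ : Fact ℓ.Prime]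

theorem pow_dvd_pv {q e f : ℕ} (hq : 1 ≤ q) {c : Fin f → ℤ} {G : ℤ} (hG : pv c (q : ℤ) * G = (q : ℤ) ^ e - 1)
    (hGℓ : ¬ (ℓ : ℤ) ∣ G) : ((ℓ ^ padicValNat ℓ (q ^ e - 1) : ℕ) : ℤ) ∣ pv c (q : ℤ) := by
  have h1 : ((ℓ ^ padicValNat ℓ (q ^ e - 1) : ℕ) : ℤ) ∣ pv c (q : ℤ) * G := by
    have h2 : ((q ^ e - 1 : ℕ) : ℤ) = (q : ℤ) ^ e - 1 := by
      rw [Nat.cast_sub (Nat.one_le_pow _ _ hq)]; simp
    rw [hG, ← h2]
    exact_mod_cast pow_padicValNat_dvd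
  refine IsCoprime.dvd_of_dvd_mul_right ?_ h1
  rw [Nat.cast_pow]
  apply IsCoprime.pow_left
  have hpi : Prime (ℓ : ℤ) := Nat.prime_iff_prime_int.1 hℓ.out
  exact (Irreducible.coprime_iff_not_dvd hpi.irreducible).2 hGℓ

theorem dvd_c3 {q : ℕ} (hq : 1 ≤ q) (ho : orderOf (q : ZMod ℓ) = 3) :
    ((ℓ ^ padicValNat ℓ (q ^ 3 - 1) : ℕ) : ℤ) ∣ pv c3 (q : ℤ) := by
  refine pow_dvd_pv (G := (q : ℤ) ^ 1 - 1) hq (by rw [pv3]; ring) ?_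
  rw [dvd_iff, ho]
  norm_num

theorem dvd_c4 {q : ℕ} (hq : 1 ≤ q) (ho : orderOf (q : ZMod ℓ) = 4) :
    ((ℓ ^ padicValNat ℓ (q ^ 4 - 1) : ℕ) : ℤ) ∣ pv c4 (q : ℤ) := by
  refine pow_dvd_pv (G := (q : ℤ) ^ 2 - 1) hq (by rw [pv4]; ring) ?_
  rw [dvd_iff, ho]
  norm_num

theorem dvd_c6 {q : ℕ} (hq : 1 ≤ q) (ho : orderOf (q : ZMod ℓ) = 6) :
    ((ℓ ^ padicValNat ℓ (q ^ 6 - 1) : ℕ) : ℤ) ∣ pv c6 (q : ℤ) := by
  refine pow_dvd_pv (G := ((q : ℤ) + 1) * ((q : ℤ) ^ 3 - 1)) hq (by rw [pv6]; ring) ?_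
  intro h
  rcases (Nat.prime_iff_prime_int.1 hℓ.out).dvd_or_dvd h with h | h
  · have h2 : (ℓ : ℤ) ∣ (q : ℤ) ^ 2 - 1 := by
      have e : (q : ℤ) ^ 2 - 1 = ((q : ℤ) + 1) * ((q : ℤ) - 1) := by ring
      rw [e]
      exact Dvd.dvd.mul_right h _
    rw [dvd_iff, ho] at h2
    norm_num at h2
  · rw [dvd_iff, ho] at h
    norm_num at h

theorem fact_le (hℓ2 : Odd ℓ) {q N n : ℕ} (hq : ¬ ℓ ∣ q) (hq2 : 2 ≤ q) {ds : List ℕ} (hds : ∀ k ∈ ds, 0 < k)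
    (hn : n ∣ q ^ N * pr q ds) : n.factorization ℓ ≤
      padicValNat ℓ (q ^ orderOf (q : ZMod ℓ) - 1) * nm (orderOf (q : ZMod ℓ)) ds + wt ℓ (orderOf (q : ZMod ℓ)) ds := by
  have h1 := v_pr hℓ2 (j := 0) hq hq2 ds hds
  rw [pow_zero, pow_one, add_zero] at h1
  rw [← h1]
  have h0 : pr q ds ≠ 0 := pr_ne_zero hq2 hds
  have hq0 : q ^ N ≠ 0 := pow_ne_zero _ (by omega)
  have h2 : n ≠ 0 := by
    rintro rfl
    exact mul_ne_zero hq0 h0 (zero_dvd_iff.1 hn)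
  have h3 := (Nat.factorization_le_iff_dvd h2 (mul_ne_zero hq0 h0)).2 hn ℓ
  refine h3.trans (le_of_eq ?_)
  rw [Nat.factorization_def _ hℓ.out, padicValNat.mul hq0 h0, padicValNat.eq_zero_of_not_dvd (n := q ^ N)
    (fun h => hq (hℓ.out.dvd_of_dvd_pow h)), zero_add]

theorem order5 {q : ℕ} (h : 5 ∣ q ^ 2 + 1) : orderOf (q : ZMod 5) = 4 := by
  have h1 : (q : ZMod 5) ^ 2 + 1 = 0 := by
    have := (CharP.cast_eq_zero_iff (ZMod 5) 5 (q ^ 2 + 1)).2 h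
    push_cast at this
    exact this
  have h2 : (q : ZMod 5) ^ 2 = -1 := eq_neg_of_add_eq_zero_left h1
  have : orderOf (q : ZMod 5) = 2 ^ (1 + 1) := by
    have : Fact (Nat.Prime 2) := ⟨Nat.prime_two⟩
    refine orderOf_eq_prime_pow ?_ ?_
    · rw [pow_one, h2]
      decide
    · rw [show 2 ^ (1 + 1) = 2 * 2 from rfl, pow_mul, h2]
      decide
  rw [this]
  norm_num

end Num

/-! ### the untwisted groups -/

section Untw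

variable {D : ChevalleyDatum} {l : ℕ} {M : CoxeterMatrix (Fin l)} (hp : IsType D l M) {W : Type*} [Group W]
  [Finite W] (cs : CoxeterSystem M W)

theorem comm_untw {d : ℕ} {B : Fin l → Fin l → ℤ} (hB : InvC D l d B) (hd : d ≠ 0) {F : Type u} [Field F] [Finite F]
    {w : W} {Th : Mat l} (hw : ∀ j, rep cs hp.isCartan w (sr j) = Th j) {f r : ℕ} {c : Fin (f + 1) → ℤ}
    {V : Fin r → Fin (f + 1) → Fin l → ℤ} {U : Fin r → Fin l → ℤ} (h : TabOK Th c V U)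
    {ℓ : ℕ} [hℓ : Fact ℓ.Prime] (hℓd : ¬ ℓ ∣ Nat.gcd d (Nat.card F - 1)) (hℓq : ¬ ℓ ∣ Nat.card F) {a : ℕ}
    (ha : ((ℓ ^ a : ℕ) : ℤ) ∣ pv c ((Nat.card F : ℕ) : ℤ))
    (hcard : (Nat.card ↥(D.group F)).factorization ℓ ≤ a * r) (P : Sylow ℓ ↥(D.group F)) :
    IsMulCommutative (P : Subgroup ↥(D.group F)) := by
  obtain ⟨k, _, _, g, p, _, _, n, hk, -, hn0, hn⟩ := Cfsg.Agent.H378.TorFin.exists_closure F
  have hℓp : ℓ ≠ p := by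
    rintro rfl
    exact hℓq (hn ▸ dvd_pow_self _ hn0.ne')
  rw [hn] at ha
  exact comm_of_eig hp cs hk hn0 (phi_isFrob p n) (phi_fr hp cs p hk n) hB hd (emb_injective hp.inList g)
    (fun y hy => Cfsg.Agent.H378.RootTor.fix_pow_mem' hp g p hn hB hd hy) hw h.1 h.2 hℓd hℓp ha hcard P

end Untw

/-! ### the tables -/

/-- the Cartan matrix -/
def A6 : Mat 6 := Cfsg.Agent.H493.PGE6.Am

/-- the Cartan matrix -/
def A7 : Mat 7 := Cfsg.Agent.H493.PGE7.Am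

/-- the Cartan matrix -/
def A8 : Mat 8 := Cfsg.Agent.H493.PGE8.Am

/-- the partial products -/
def L6 : List (Fin 6 × Mat 6) := [
    (3, ![![1, 1, 1, 2, 1, 0],
      ![0, 0, 0, 0, -1, 0],
      ![0, -1, -1, -2, -1, 0],
      ![0, 0, 1, 1, 1, 0],
      ![0, 1, 0, 0, 0, 0],
      ![0, 0, 0, 1, 1, 1]]),
    (4, ![![1, 1, 1, 1, 1, 0],
      ![0, 0, 0, -1, -1, 0],
      ![0, -1, -1, -1, -1, 0],
      ![0, 0, 1, 1, 1, 0],
      ![0, 1, 0, 1, 0, 0],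
      ![0, 0, 0, 0, 1, 1]]),
    (1, ![![1, 1, 1, 1, 0, 0],
      ![0, 0, 0, -1, 0, 0],
      ![0, -1, -1, -1, 0, 0],
      ![0, 0, 1, 1, 0, 0],
      ![0, 1, 0, 1, 1, 0],
      ![0, 0, 0, 0, 0, 1]]),
    (3, ![![1, 0, 1, 1, 0, 0],
      ![0, -1, 0, -1, 0, 0],
      ![0, 0, -1, -1, 0, 0],
      ![0, 1, 1, 1, 0, 0],
      ![0, 0, 0, 1, 1, 0],
      ![0, 0, 0, 0, 0, 1]]),
    (2, ![![1, 0, 1, 0, 0, 0],
      ![0, -1, 0, 0, 0, 0],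
      ![0, 0, -1, 0, 0, 0],
      ![0, 1, 1, 1, 0, 0],
      ![0, 0, 0, 0, 1, 0],
      ![0, 0, 0, 0, 0, 1]]),
    (1, ![![1, 0, 0, 0, 0, 0],
      ![0, -1, 0, 0, 0, 0],
      ![0, 0, 1, 0, 0, 0],
      ![0, 1, 0, 1, 0, 0],
      ![0, 0, 0, 0, 1, 0],
      ![0, 0, 0, 0, 0, 1]])]

/-- the eigenfunctionals -/
def V64 : Fin 2 → Fin (1 + 1) → Fin 6 → ℤ := ![![![1, 0, -2, 1, 0, 0], ![-1, 0, 0, 1, 0, -1]],
    ![![0, 1, -1, 0, 1, -1], ![-1, 1, 1, 0, -1, 0]]]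

/-- the dual vectors -/
def U64 : Fin 2 → Fin 6 → ℤ := ![![-1, 0, -1, 0, 0, 1],
    ![-1, 0, -1, -1, 0, 0]]

theorem ch6 : ChainOK A6 L6 :=
  H129.ChainF.ok H129.ChainF.i6 H129.ChainF.m6 (H129.ChainF.c6 <| H129.ChainF.c6 <| H129.ChainF.c6 <| H129.ChainF.c6 <| H129.ChainF.c6 <| H129.ChainF.c6 <| H129.ChainF.nil) (by decide +kernel)

theorem ok64 : TabOK (hd L6) c4 V64 U64 := by decide +kernel

/-- the partial products -/
def L7 : List (Fin 7 × Mat 7) := [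
    (3, ![![1, 1, 1, 2, 1, 0, 0],
      ![0, 0, 0, 0, -1, 0, 0],
      ![0, -1, -1, -2, -1, 0, 0],
      ![0, 0, 1, 1, 1, 0, 0],
      ![0, 1, 0, 0, 0, 0, 0],
      ![0, 0, 0, 1, 1, 1, 0],
      ![0, 0, 0, 0, 0, 0, 1]]),
    (4, ![![1, 1, 1, 1, 1, 0, 0],
      ![0, 0, 0, -1, -1, 0, 0],
      ![0, -1, -1, -1, -1, 0, 0],
      ![0, 0, 1, 1, 1, 0, 0],
      ![0, 1, 0, 1, 0, 0, 0],
      ![0, 0, 0, 0, 1, 1, 0],
      ![0, 0, 0, 0, 0, 0, 1]]),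
    (1, ![![1, 1, 1, 1, 0, 0, 0],
      ![0, 0, 0, -1, 0, 0, 0],
      ![0, -1, -1, -1, 0, 0, 0],
      ![0, 0, 1, 1, 0, 0, 0],
      ![0, 1, 0, 1, 1, 0, 0],
      ![0, 0, 0, 0, 0, 1, 0],
      ![0, 0, 0, 0, 0, 0, 1]]),
    (3, ![![1, 0, 1, 1, 0, 0, 0],
      ![0, -1, 0, -1, 0, 0, 0],
      ![0, 0, -1, -1, 0, 0, 0],
      ![0, 1, 1, 1, 0, 0, 0],
      ![0, 0, 0, 1, 1, 0, 0],
      ![0, 0, 0, 0, 0, 1, 0],
      ![0, 0, 0, 0, 0, 0, 1]]),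
    (2, ![![1, 0, 1, 0, 0, 0, 0],
      ![0, -1, 0, 0, 0, 0, 0],
      ![0, 0, -1, 0, 0, 0, 0],
      ![0, 1, 1, 1, 0, 0, 0],
      ![0, 0, 0, 0, 1, 0, 0],
      ![0, 0, 0, 0, 0, 1, 0],
      ![0, 0, 0, 0, 0, 0, 1]]),
    (1, ![![1, 0, 0, 0, 0, 0, 0],
      ![0, -1, 0, 0, 0, 0, 0],
      ![0, 0, 1, 0, 0, 0, 0],
      ![0, 1, 0, 1, 0, 0, 0],
      ![0, 0, 0, 0, 1, 0, 0],
      ![0, 0, 0, 0, 0, 1, 0],
      ![0, 0, 0, 0, 0, 0, 1]])]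

/-- the eigenfunctionals -/
def V74 : Fin 2 → Fin (1 + 1) → Fin 7 → ℤ := ![![![0, 0, 0, -1, 2, -1, 0], ![0, 2, 0, -1, 0, 0, 0]],
    ![![0, 1, -1, 0, 1, -1, 0], ![-1, 1, 1, 0, -1, 0, 0]]]

/-- the dual vectors -/
def U74 : Fin 2 → Fin 7 → ℤ := ![![1, 0, 1, 0, 0, -1, 0],
    ![-1, 0, -1, 0, 0, 0, 0]]

theorem ch7 : ChainOK A7 L7 :=
  H129.ChainF.ok H129.ChainF.i7 H129.ChainF.m7 (H129.ChainF.c7 <| H129.ChainF.c7 <| H129.ChainF.c7 <| H129.ChainF.c7 <| H129.ChainF.c7 <| H129.ChainF.c7 <| H129.ChainF.nil) (by decide +kernel)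

theorem ok74 : TabOK (hd L7) c4 V74 U74 := by decide +kernel

/-- the Coxeter element -/
def C7 : List (Fin 7 × Mat 7) := [
    (0, ![![0, 0, 1, 0, 0, 0, 0],
      ![1, 0, 1, 1, 0, 0, 0],
      ![0, 1, 0, 1, 0, 0, 0],
      ![0, 0, 0, 0, 1, 0, 0],
      ![0, 0, 0, 0, 0, 1, 0],
      ![0, 0, 0, 0, 0, 0, 1],
      ![-1, -1, -1, -1, -1, -1, -1]]),
    (1, ![![1, 0, 1, 0, 0, 0, 0],
      ![0, 0, 1, 1, 0, 0, 0],
      ![0, 1, 0, 1, 0, 0, 0],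
      ![0, 0, 0, 0, 1, 0, 0],
      ![0, 0, 0, 0, 0, 1, 0],
      ![0, 0, 0, 0, 0, 0, 1],
      ![0, -1, -1, -1, -1, -1, -1]]),
    (2, ![![1, 0, 1, 0, 0, 0, 0],
      ![0, 1, 1, 1, 0, 0, 0],
      ![0, 0, 0, 1, 0, 0, 0],
      ![0, 0, 0, 0, 1, 0, 0],
      ![0, 0, 0, 0, 0, 1, 0],
      ![0, 0, 0, 0, 0, 0, 1],
      ![0, 0, -1, -1, -1, -1, -1]]),
    (3, ![![1, 0, 0, 0, 0, 0, 0],
      ![0, 1, 0, 1, 0, 0, 0],
      ![0, 0, 1, 1, 0, 0, 0],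
      ![0, 0, 0, 0, 1, 0, 0],
      ![0, 0, 0, 0, 0, 1, 0],
      ![0, 0, 0, 0, 0, 0, 1],
      ![0, 0, 0, -1, -1, -1, -1]]),
    (4, ![![1, 0, 0, 0, 0, 0, 0],
      ![0, 1, 0, 0, 0, 0, 0],
      ![0, 0, 1, 0, 0, 0, 0],
      ![0, 0, 0, 1, 1, 0, 0],
      ![0, 0, 0, 0, 0, 1, 0],
      ![0, 0, 0, 0, 0, 0, 1],
      ![0, 0, 0, 0, -1, -1, -1]]),
    (5, ![![1, 0, 0, 0, 0, 0, 0],
      ![0, 1, 0, 0, 0, 0, 0],
      ![0, 0, 1, 0, 0, 0, 0],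
      ![0, 0, 0, 1, 0, 0, 0],
      ![0, 0, 0, 0, 1, 1, 0],
      ![0, 0, 0, 0, 0, 0, 1],
      ![0, 0, 0, 0, 0, -1, -1]]),
    (6, ![![1, 0, 0, 0, 0, 0, 0],
      ![0, 1, 0, 0, 0, 0, 0],
      ![0, 0, 1, 0, 0, 0, 0],
      ![0, 0, 0, 1, 0, 0, 0],
      ![0, 0, 0, 0, 1, 0, 0],
      ![0, 0, 0, 0, 0, 1, 1],
      ![0, 0, 0, 0, 0, 0, -1]])]

theorem chC7 : ChainOK A7 C7 :=
  H129.ChainF.ok H129.ChainF.i7 H129.ChainF.m7 (H129.ChainF.c7 <| H129.ChainF.c7 <| H129.ChainF.c7 <| H129.ChainF.c7 <| H129.ChainF.c7 <| H129.ChainF.c7 <| H129.ChainF.c7 <| H129.ChainF.nil) (by decide +kernel)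

/-- a matrix of an element of the Weyl group -/
def M72 : Mat 7 := ![![0, 1, 0, 1, 0, 0, 0],
    ![0, 1, 1, 1, 1, 0, 0],
    ![1, 0, 1, 1, 1, 0, 0],
    ![0, 0, 0, 0, 0, 1, 0],
    ![0, 0, 0, 0, 0, 0, 1],
    ![-1, -1, -1, -1, -1, -1, -1],
    ![0, 0, -1, -1, 0, 0, 0]]

/-- a matrix of an element of the Weyl group -/
def M73 : Mat 7 := ![![1, 0, 1, 1, 1, 0, 0],
    ![1, 1, 1, 2, 1, 1, 0],
    ![0, 1, 1, 1, 1, 1, 0],
    ![0, 0, 0, 0, 0, 0, 1],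
    ![-1, -1, -1, -1, -1, -1, -1],
    ![0, 0, -1, -1, 0, 0, 0],
    ![0, -1, 0, -1, -1, 0, 0]]

/-- a matrix of an element of the Weyl group -/
def M76 : Mat 7 := ![![0, 0, 1, 1, 1, 0, 0],
    ![1, 1, 1, 2, 2, 1, 1],
    ![0, 1, 0, 1, 1, 1, 0],
    ![0, -1, 0, -1, -1, 0, 0],
    ![-1, 0, -1, -1, -1, -1, 0],
    ![0, -1, -1, -1, -1, -1, -1],
    ![0, 0, 0, -1, 0, 0, 0]]

theorem p72 : MulOK (hd C7) (hd C7) M72 := fun j m =>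
  (H129.MulF.mul (H129.MulF.hM H129.ChainF.m7) (H129.RootF.hT H129.RootF.t7) H129.ChainF.m7 (by decide +kernel) j m).symm

theorem p73 : MulOK (hd C7) M72 M73 := fun j m =>
  (H129.MulF.mul H129.ChainF.m7 (H129.RootF.hT H129.RootF.t7) H129.ChainF.m7 (by decide +kernel) j m).symm

theorem p76 : MulOK M73 M73 M76 := fun j m =>
  (H129.MulF.mul H129.ChainF.m7 H129.RootF.t7 H129.ChainF.m7 (by decide +kernel) j m).symm

/-- the eigenfunctionals -/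
def V73 : Fin 3 → Fin (1 + 1) → Fin 7 → ℤ := ![![![-1, -1, 0, 0, 1, 0, 0], ![-1, 0, 0, 0, 0, 0, 0]],
    ![![-1, -1, -1, 0, 1, 1, 0], ![0, 0, -1, 0, 0, 0, 0]],
    ![![-1, -2, -1, 0, 1, 1, 1], ![0, 0, 0, -1, 0, 0, 0]]]

/-- the dual vectors -/
def U73 : Fin 3 → Fin 7 → ℤ := ![![0, 0, 0, 0, 1, -1, 0],
    ![0, 0, 0, 0, 0, 1, -1],
    ![0, 0, 0, 0, 0, 0, 1]]

theorem ok73 : TabOK M76 c3 V73 U73 := by decide +kernel

/-- the eigenfunctionals -/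
def V76 : Fin 3 → Fin (1 + 1) → Fin 7 → ℤ := ![![![0, -1, 0, 0, 1, 0, 0], ![-1, 0, 0, 0, 0, 0, 0]],
    ![![0, -1, -1, 0, 1, 1, 0], ![0, 0, 0, 0, 0, -1, 0]],
    ![![-1, -2, -1, 1, 1, 1, 1], ![0, 0, 0, -1, 0, 0, 0]]]

/-- the dual vectors -/
def U76 : Fin 3 → Fin 7 → ℤ := ![![0, 0, 1, 0, 1, 0, 0],
    ![0, 0, -1, 0, 0, 0, -1],
    ![0, 0, 0, 0, 0, 0, 1]]

theorem ok76 : TabOK M73 c6 V76 U76 := by decide +kernel

/-- the Coxeter element -/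
def C8 : List (Fin 8 × Mat 8) := [
    (0, ![![0, 0, 1, 0, 0, 0, 0, 0],
      ![1, 0, 1, 1, 0, 0, 0, 0],
      ![0, 1, 0, 1, 0, 0, 0, 0],
      ![0, 0, 0, 0, 1, 0, 0, 0],
      ![0, 0, 0, 0, 0, 1, 0, 0],
      ![0, 0, 0, 0, 0, 0, 1, 0],
      ![0, 0, 0, 0, 0, 0, 0, 1],
      ![-1, -1, -1, -1, -1, -1, -1, -1]]),
    (1, ![![1, 0, 1, 0, 0, 0, 0, 0],
      ![0, 0, 1, 1, 0, 0, 0, 0],
      ![0, 1, 0, 1, 0, 0, 0, 0],
      ![0, 0, 0, 0, 1, 0, 0, 0],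
      ![0, 0, 0, 0, 0, 1, 0, 0],
      ![0, 0, 0, 0, 0, 0, 1, 0],
      ![0, 0, 0, 0, 0, 0, 0, 1],
      ![0, -1, -1, -1, -1, -1, -1, -1]]),
    (2, ![![1, 0, 1, 0, 0, 0, 0, 0],
      ![0, 1, 1, 1, 0, 0, 0, 0],
      ![0, 0, 0, 1, 0, 0, 0, 0],
      ![0, 0, 0, 0, 1, 0, 0, 0],
      ![0, 0, 0, 0, 0, 1, 0, 0],
      ![0, 0, 0, 0, 0, 0, 1, 0],
      ![0, 0, 0, 0, 0, 0, 0, 1],
      ![0, 0, -1, -1, -1, -1, -1, -1]]),
    (3, ![![1, 0, 0, 0, 0, 0, 0, 0],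
      ![0, 1, 0, 1, 0, 0, 0, 0],
      ![0, 0, 1, 1, 0, 0, 0, 0],
      ![0, 0, 0, 0, 1, 0, 0, 0],
      ![0, 0, 0, 0, 0, 1, 0, 0],
      ![0, 0, 0, 0, 0, 0, 1, 0],
      ![0, 0, 0, 0, 0, 0, 0, 1],
      ![0, 0, 0, -1, -1, -1, -1, -1]]),
    (4, ![![1, 0, 0, 0, 0, 0, 0, 0],
      ![0, 1, 0, 0, 0, 0, 0, 0],
      ![0, 0, 1, 0, 0, 0, 0, 0],
      ![0, 0, 0, 1, 1, 0, 0, 0],
      ![0, 0, 0, 0, 0, 1, 0, 0],
      ![0, 0, 0, 0, 0, 0, 1, 0],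
      ![0, 0, 0, 0, 0, 0, 0, 1],
      ![0, 0, 0, 0, -1, -1, -1, -1]]),
    (5, ![![1, 0, 0, 0, 0, 0, 0, 0],
      ![0, 1, 0, 0, 0, 0, 0, 0],
      ![0, 0, 1, 0, 0, 0, 0, 0],
      ![0, 0, 0, 1, 0, 0, 0, 0],
      ![0, 0, 0, 0, 1, 1, 0, 0],
      ![0, 0, 0, 0, 0, 0, 1, 0],
      ![0, 0, 0, 0, 0, 0, 0, 1],
      ![0, 0, 0, 0, 0, -1, -1, -1]]),
    (6, ![![1, 0, 0, 0, 0, 0, 0, 0],
      ![0, 1, 0, 0, 0, 0, 0, 0],
      ![0, 0, 1, 0, 0, 0, 0, 0],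
      ![0, 0, 0, 1, 0, 0, 0, 0],
      ![0, 0, 0, 0, 1, 0, 0, 0],
      ![0, 0, 0, 0, 0, 1, 1, 0],
      ![0, 0, 0, 0, 0, 0, 0, 1],
      ![0, 0, 0, 0, 0, 0, -1, -1]]),
    (7, ![![1, 0, 0, 0, 0, 0, 0, 0],
      ![0, 1, 0, 0, 0, 0, 0, 0],
      ![0, 0, 1, 0, 0, 0, 0, 0],
      ![0, 0, 0, 1, 0, 0, 0, 0],
      ![0, 0, 0, 0, 1, 0, 0, 0],
      ![0, 0, 0, 0, 0, 1, 0, 0],
      ![0, 0, 0, 0, 0, 0, 1, 1],
      ![0, 0, 0, 0, 0, 0, 0, -1]])]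

theorem chC8 : ChainOK A8 C8 :=
  H129.ChainF.ok H129.ChainF.i8 H129.ChainF.m8 (H129.ChainF.c8 <| H129.ChainF.c8 <| H129.ChainF.c8 <| H129.ChainF.c8 <| H129.ChainF.c8 <| H129.ChainF.c8 <| H129.ChainF.c8 <| H129.ChainF.c8 <| H129.ChainF.nil) (by decide +kernel)

/-- a matrix of an element of the Weyl group -/
def M82 : Mat 8 := ![![0, 1, 0, 1, 0, 0, 0, 0],
    ![0, 1, 1, 1, 1, 0, 0, 0],
    ![1, 0, 1, 1, 1, 0, 0, 0],
    ![0, 0, 0, 0, 0, 1, 0, 0],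
    ![0, 0, 0, 0, 0, 0, 1, 0],
    ![0, 0, 0, 0, 0, 0, 0, 1],
    ![-1, -1, -1, -1, -1, -1, -1, -1],
    ![0, 0, -1, -1, 0, 0, 0, 0]]

/-- a matrix of an element of the Weyl group -/
def M84 : Mat 8 := ![![0, 1, 1, 1, 1, 1, 0, 0],
    ![1, 1, 2, 2, 2, 1, 1, 0],
    ![1, 1, 1, 2, 1, 1, 1, 0],
    ![0, 0, 0, 0, 0, 0, 0, 1],
    ![-1, -1, -1, -1, -1, -1, -1, -1],
    ![0, 0, -1, -1, 0, 0, 0, 0],
    ![0, -1, 0, -1, -1, 0, 0, 0],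
    ![-1, 0, -1, -1, -1, -1, 0, 0]]

/-- a matrix of an element of the Weyl group -/
def M85 : Mat 8 := ![![1, 1, 1, 2, 1, 1, 1, 0],
    ![1, 2, 2, 3, 2, 2, 1, 1],
    ![1, 1, 2, 2, 2, 1, 1, 1],
    ![-1, -1, -1, -1, -1, -1, -1, -1],
    ![0, 0, -1, -1, 0, 0, 0, 0],
    ![0, -1, 0, -1, -1, 0, 0, 0],
    ![-1, 0, -1, -1, -1, -1, 0, 0],
    ![0, -1, -1, -1, -1, -1, -1, 0]]

/-- a matrix of an element of the Weyl group -/
def M810 : Mat 8 := ![![0, 1, 1, 2, 1, 1, 1, 0],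
    ![1, 1, 2, 3, 2, 2, 1, 1],
    ![1, 1, 1, 2, 2, 1, 1, 1],
    ![-1, -1, -1, -2, -1, -1, -1, -1],
    ![0, 0, -1, -1, -1, 0, 0, 0],
    ![0, -1, 0, -1, -1, -1, 0, 0],
    ![-1, 0, -1, -1, -1, -1, -1, 0],
    ![0, -1, -1, -1, -1, -1, -1, -1]]

theorem p82 : MulOK (hd C8) (hd C8) M82 := fun j m =>
  (H129.MulF.mul (H129.MulF.hM H129.ChainF.m8) (H129.RootF.hT H129.RootF.t8) H129.ChainF.m8 (by decide +kernel) j m).symm

theorem p84 : MulOK M82 M82 M84 := fun j m =>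
  (H129.MulF.mul H129.ChainF.m8 H129.RootF.t8 H129.ChainF.m8 (by decide +kernel) j m).symm

theorem p85 : MulOK (hd C8) M84 M85 := fun j m =>
  (H129.MulF.mul H129.ChainF.m8 (H129.RootF.hT H129.RootF.t8) H129.ChainF.m8 (by decide +kernel) j m).symm

theorem p810 : MulOK M85 M85 M810 := fun j m =>
  (H129.MulF.mul H129.ChainF.m8 H129.RootF.t8 H129.ChainF.m8 (by decide +kernel) j m).symm

/-- the eigenfunctionals -/
def V83 : Fin 4 → Fin (1 + 1) → Fin 8 → ℤ := ![![![-1, -1, -1, 1, 0, 0, 1, 0], ![-1, 0, 0, 0, 0, 0, 0, 0]],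
    ![![0, -1, -1, 1, 0, 0, 0, 0], ![0, 0, 0, 0, 0, 0, 0, -1]],
    ![![-1, -2, -1, 1, 0, 1, 0, 1], ![0, -1, 0, 0, 0, 0, 0, 0]],
    ![![-1, -2, -2, 1, 1, 0, 1, 1], ![0, 0, -1, 0, 0, 0, 0, 0]]]

/-- the dual vectors -/
def U83 : Fin 4 → Fin 8 → ℤ := ![![0, 0, 0, 0, -1, 0, 1, 0],
    ![0, 0, 0, 1, 0, -1, -1, 0],
    ![0, 0, 0, 0, 0, 1, 0, 0],
    ![0, 0, 0, 0, 1, 0, 0, 0]]

theorem ok83 : TabOK M810 c3 V83 U83 := by decide +kernel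

/-- the eigenfunctionals -/
def V86 : Fin 4 → Fin (1 + 1) → Fin 8 → ℤ := ![![![0, -1, -1, 1, 0, 0, 0, 1], ![0, 0, 0, 0, 0, 0, 0, -1]],
    ![![0, -1, -1, 1, 0, 0, 1, 0], ![-1, 0, 0, 0, 0, 0, 0, 0]],
    ![![-1, -1, -1, 1, 0, 1, 0, 1], ![0, -1, 0, 0, 0, 0, 0, 0]],
    ![![-1, -2, -1, 1, 1, 0, 1, 1], ![0, 0, -1, 0, 0, 0, 0, 0]]]

/-- the dual vectors -/
def U86 : Fin 4 → Fin 8 → ℤ := ![![0, 0, 0, 1, 0, -1, -1, 0],
    ![0, 0, 0, 0, -1, 0, 1, 0],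
    ![0, 0, 0, 0, 0, 1, 0, 0],
    ![0, 0, 0, 0, 1, 0, 0, 0]]

theorem ok86 : TabOK M85 c6 V86 U86 := by decide +kernel

/-- the partial products -/
def LT : List (Fin 6 × Mat 6) := [
    (0, ![![0, 0, -1, -1, -1, -1],
      ![-1, -1, -1, -2, -1, -1],
      ![-1, -1, -1, -1, -1, 0],
      ![1, 1, 1, 1, 1, 1],
      ![0, 0, 0, 1, 1, 0],
      ![0, 1, 1, 1, 0, 0]]),
    (2, ![![-1, 0, -1, -1, -1, -1],
      ![0, -1, -1, -2, -1, -1],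
      ![0, -1, -1, -1, -1, 0],
      ![0, 1, 1, 1, 1, 1],
      ![0, 0, 0, 1, 1, 0],
      ![1, 1, 1, 1, 0, 0]]),
    (3, ![![-1, 0, -1, -1, -1, -1],
      ![0, -1, -1, -2, -1, -1],
      ![0, -1, 0, -1, -1, 0],
      ![0, 1, 0, 1, 1, 1],
      ![0, 0, 1, 1, 1, 0],
      ![1, 1, 1, 1, 0, 0]]),
    (4, ![![-1, 0, -1, -1, -1, -1],
      ![0, -1, -1, -1, -1, -1],
      ![0, -1, 0, -1, -1, 0],
      ![0, 1, 0, 1, 1, 1],
      ![0, 0, 1, 1, 1, 0],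
      ![1, 1, 1, 1, 0, 0]]),
    (5, ![![-1, 0, -1, -1, -1, -1],
      ![0, -1, -1, -1, -1, -1],
      ![0, -1, 0, -1, 0, 0],
      ![0, 1, 0, 1, 1, 1],
      ![0, 0, 1, 1, 0, 0],
      ![1, 1, 1, 1, 1, 0]]),
    (0, ![![-1, 0, -1, -1, -1, 0],
      ![0, -1, -1, -1, -1, 0],
      ![0, -1, 0, -1, 0, 0],
      ![0, 1, 0, 1, 1, 0],
      ![0, 0, 1, 1, 0, 0],
      ![1, 1, 1, 1, 1, 1]]),
    (2, ![![0, 0, -1, -1, -1, 0],
      ![-1, -1, -1, -1, -1, 0],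
      ![0, -1, 0, -1, 0, 0],
      ![0, 1, 0, 1, 1, 0],
      ![1, 0, 1, 1, 0, 0],
      ![0, 1, 1, 1, 1, 1]]),
    (1, ![![0, 0, 0, -1, -1, 0],
      ![-1, -1, -1, -1, -1, 0],
      ![0, -1, -1, -1, 0, 0],
      ![0, 1, 1, 1, 1, 0],
      ![1, 0, 1, 1, 0, 0],
      ![0, 1, 0, 1, 1, 1]]),
    (3, ![![0, -1, 0, -1, -1, 0],
      ![-1, 0, -1, -1, -1, 0],
      ![0, 0, -1, -1, 0, 0],
      ![0, 0, 1, 1, 1, 0],
      ![1, 1, 1, 1, 0, 0],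
      ![0, 0, 0, 1, 1, 1]]),
    (4, ![![0, -1, 0, -1, -1, 0],
      ![-1, 0, -1, -1, -1, 0],
      ![0, 0, -1, 0, 0, 0],
      ![0, 0, 1, 1, 1, 0],
      ![1, 1, 1, 1, 0, 0],
      ![0, 0, 0, 0, 1, 1]]),
    (0, ![![0, -1, 0, -1, 0, 0],
      ![-1, 0, -1, -1, 0, 0],
      ![0, 0, -1, 0, 0, 0],
      ![0, 0, 1, 1, 0, 0],
      ![1, 1, 1, 1, 1, 0],
      ![0, 0, 0, 0, 0, 1]]),
    (2, ![![0, -1, 0, -1, 0, 0],
      ![0, 0, -1, -1, 0, 0],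
      ![-1, 0, -1, 0, 0, 0],
      ![1, 0, 1, 1, 0, 0],
      ![0, 1, 1, 1, 1, 0],
      ![0, 0, 0, 0, 0, 1]]),
    (1, ![![0, -1, -1, -1, 0, 0],
      ![0, 0, 0, -1, 0, 0],
      ![-1, 0, 0, 0, 0, 0],
      ![1, 0, 1, 1, 0, 0],
      ![0, 1, 0, 1, 1, 0],
      ![0, 0, 0, 0, 0, 1]]),
    (3, ![![0, 0, -1, -1, 0, 0],
      ![0, -1, 0, -1, 0, 0],
      ![-1, 0, 0, 0, 0, 0],
      ![1, 1, 1, 1, 0, 0],
      ![0, 0, 0, 1, 1, 0],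
      ![0, 0, 0, 0, 0, 1]]),
    (0, ![![0, 0, -1, 0, 0, 0],
      ![0, -1, 0, 0, 0, 0],
      ![-1, 0, 0, 0, 0, 0],
      ![1, 1, 1, 1, 0, 0],
      ![0, 0, 0, 0, 1, 0],
      ![0, 0, 0, 0, 0, 1]]),
    (2, ![![-1, 0, -1, 0, 0, 0],
      ![0, -1, 0, 0, 0, 0],
      ![1, 0, 0, 0, 0, 0],
      ![0, 1, 1, 1, 0, 0],
      ![0, 0, 0, 0, 1, 0],
      ![0, 0, 0, 0, 0, 1]]),
    (1, ![![-1, 0, 0, 0, 0, 0],
      ![0, -1, 0, 0, 0, 0],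
      ![1, 0, 1, 0, 0, 0],
      ![0, 1, 0, 1, 0, 0],
      ![0, 0, 0, 0, 1, 0],
      ![0, 0, 0, 0, 0, 1]]),
    (0, ![![-1, 0, 0, 0, 0, 0],
      ![0, 1, 0, 0, 0, 0],
      ![1, 0, 1, 0, 0, 0],
      ![0, 0, 0, 1, 0, 0],
      ![0, 0, 0, 0, 1, 0],
      ![0, 0, 0, 0, 0, 1]])]

/-- a matrix of an element of the Weyl group -/
def MT : Mat 6 := ![![0, 1, 1, 1, 0, 0],
    ![-1, -1, -1, -2, -1, -1],
    ![0, 0, 0, 1, 1, 0],
    ![1, 1, 1, 1, 1, 1],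
    ![-1, -1, -1, -1, -1, 0],
    ![0, 0, -1, -1, -1, -1]]

theorem chT : ChainOK A6 LT :=
  H129.ChainF.ok H129.ChainF.i6 H129.ChainF.m6 (H129.ChainF.c6 <| H129.ChainF.c6 <| H129.ChainF.c6 <| H129.ChainF.c6 <| H129.ChainF.c6 <| H129.ChainF.c6 <| H129.ChainF.c6 <| H129.ChainF.c6 <| H129.ChainF.c6 <| H129.ChainF.c6 <| H129.ChainF.c6 <| H129.ChainF.c6 <| H129.ChainF.c6 <| H129.ChainF.c6 <| H129.ChainF.c6 <| H129.ChainF.c6 <| H129.ChainF.c6 <| H129.ChainF.c6 <| H129.ChainF.nil) (by decide +kernel)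

theorem thT : ∀ j, hd LT (Cfsg.Agent.H493.TwE6Alg.pi j) = MT j := by decide +kernel

/-- the eigenfunctionals -/
def VT4 : Fin 2 → Fin (1 + 1) → Fin 6 → ℤ := ![![![-1, 1, 0, -1, 1, 0], ![0, -1, 0, 0, 0, 0]],
    ![![-1, 2, -1, -1, 1, 1], ![0, 0, 0, -1, 0, 0]]]

/-- the dual vectors -/
def UT4 : Fin 2 → Fin 6 → ℤ := ![![-1, 0, 1, 0, 0, 0],
    ![0, 0, -1, 0, 0, 0]]

theorem okT4 : TabOK MT c4 VT4 UT4 := by decide +kernel

/-! ### the rows -/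

section Main

open Cfsg.Agent.H172.SI Cfsg.Agent.H129

theorem comm_main {D : ChevalleyDatum} {l : ℕ} {M : CoxeterMatrix (Fin l)} (hp : IsType D l M)
    (hW : Finite M.Group) {d : ℕ} {B : Fin l → Fin l → ℤ} (hB : InvC D l d B) (hd : d ≠ 0)
    {dd : ℕ → ℕ} {N : ℕ} {ds : List ℕ} (hdeg : Deg D dd N ds) (hds : ∀ k ∈ ds, 0 < k)
    {w : M.Group} {Th : Mat l} (hw : ∀ j, rep M.toCoxeterSystem hp.isCartan w (sr j) = Th j)
    {f r : ℕ} {c : Fin (f + 1) → ℤ} {V : Fin r → Fin (f + 1) → Fin l → ℤ} {U : Fin r → Fin l → ℤ} (h : TabOK Th c V U)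
    {ℓ : ℕ} [hℓ : Fact ℓ.Prime] (hℓ2 : Odd ℓ) (hℓd : ¬ ℓ ∣ d) {F : Type} [Field F] [Fintype F]
    (hℓq : ¬ ℓ ∣ Fintype.card F) {e : ℕ} (he : orderOf (Fintype.card F : ZMod ℓ) = e)
    (ha : ((ℓ ^ padicValNat ℓ (Fintype.card F ^ e - 1) : ℕ) : ℤ) ∣ pv c ((Fintype.card F : ℕ) : ℤ))
    (hnm : nm e ds = r) (hwt : wt ℓ e ds = 0) (P : Sylow ℓ ↥(D.group F)) :
    IsMulCommutative (P : Subgroup ↥(D.group F)) := by
  have hq2 : 2 ≤ Fintype.card F := Fintype.one_lt_card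
  have hc : Nat.card F = Fintype.card F := Nat.card_eq_fintype_card
  refine comm_untw hp M.toCoxeterSystem hB hd hw h (fun h1 => hℓd (h1.trans (Nat.gcd_dvd_left _ _))) (by rwa [hc])
    (a := padicValNat ℓ (Fintype.card F ^ e - 1)) (by rwa [hc]) ?_ P
  have h1 := fact_le hℓ2 hℓq hq2 hds (n := Nat.card ↥(D.group F)) (N := N) ⟨dd (Fintype.card F), by
    rw [mul_comm (Nat.card ↥(D.group F)), hdeg.card]; rfl⟩
  rw [he, hwt, add_zero, hnm] at h1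
  exact h1

variable {F : Type} [Field F] [Fintype F]

instance fact5 : Fact (Nat.Prime 5) := ⟨by norm_num⟩

instance fact7 : Fact (Nat.Prime 7) := ⟨by norm_num⟩

theorem not_dvd_of {ℓ q e : ℕ} [hℓ : Fact ℓ.Prime] (he0 : e ≠ 0) (he : orderOf (q : ZMod ℓ) = e) : ¬ ℓ ∣ q := by
  intro h
  rw [(CharP.cast_eq_zero_iff (ZMod ℓ) ℓ q).2 h] at he
  have h1 : orderOf (0 : ZMod ℓ) = 0 := by
    rw [orderOf_eq_zero_iff']
    intro n hn h2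
    rw [zero_pow hn.ne'] at h2
    exact zero_ne_one h2
  exact he0 (he ▸ h1)

theorem wt5 {ds : List ℕ} (h : ∀ k ∈ ds, 4 ∣ k → ¬ 5 ∣ k) : wt 5 4 ds = 0 := by
  induction ds with
  | nil => rfl
  | cons k ds ih =>
    rw [wt, ih fun k hk => h k (List.mem_cons_of_mem _ hk), add_zero]
    split_ifs with h1
    · exact padicValNat.eq_zero_of_not_dvd (h k List.mem_cons_self h1)
    · rfl

theorem wt7 {e : ℕ} {ds : List ℕ} (h : ∀ k ∈ ds, e ∣ k → ¬ 7 ∣ k) : wt 7 e ds = 0 := by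
  induction ds with
  | nil => rfl
  | cons k ds ih =>
    rw [wt, ih fun k hk => h k (List.mem_cons_of_mem _ hk), add_zero]
    split_ifs with h1
    · exact padicValNat.eq_zero_of_not_dvd (h k List.mem_cons_self h1)
    · rfl

/-- **`E₆(q)`, `p = 5`, `q` of order `4` modulo `5`.** -/
theorem comm_E6 (ho : orderOf (Fintype.card F : ZMod 5) = 4) (P : Sylow 5 ↥(chevE6.group F)) :
    IsMulCommutative (P : Subgroup ↥(chevE6.group F)) :=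
  comm_main Cfsg.Agent.H493.PGE6.hp Cfsg.Agent.H493.PGE6.finW TorusChar.invC_E6 (by norm_num) deg_E6 (by decide)
    (fun j => WData.chain_rep Cfsg.Agent.H493.PGE6.hp _ Cfsg.Agent.H493.PGE6.hA ch6 j) ok64 (by decide) (by norm_num)
    (not_dvd_of (by norm_num) ho) ho (dvd_c4 Fintype.card_pos ho) (by decide) (wt5 (by decide)) P

/-- **`E₇(q)`, `p = 5`, `q` of order `4` modulo `5`.** -/
theorem comm_E7 (ho : orderOf (Fintype.card F : ZMod 5) = 4) (P : Sylow 5 ↥(chevE7.group F)) :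
    IsMulCommutative (P : Subgroup ↥(chevE7.group F)) :=
  comm_main Cfsg.Agent.H493.PGE7.hp Cfsg.Agent.H493.PGE7.finW TorusChar.invC_E7 (by norm_num) deg_E7 (by decide)
    (fun j => WData.chain_rep Cfsg.Agent.H493.PGE7.hp _ Cfsg.Agent.H493.PGE7.hA ch7 j) ok74 (by decide) (by norm_num)
    (not_dvd_of (by norm_num) ho) ho (dvd_c4 Fintype.card_pos ho) (by decide) (wt5 (by decide)) P

/-- the Coxeter element -/
theorem cox7 : ∀ j, rep CoxeterMatrix.E₇.toCoxeterSystem Cfsg.Agent.H493.PGE7.hp.isCartan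
    (CoxeterMatrix.E₇.toCoxeterSystem.wordProd (C7.map Prod.fst)) (sr j) = hd C7 j :=
  fun j => WData.chain_rep Cfsg.Agent.H493.PGE7.hp _ Cfsg.Agent.H493.PGE7.hA chC7 j

/-- the Coxeter element -/
theorem cox8 : ∀ j, rep CoxeterMatrix.E₈.toCoxeterSystem Cfsg.Agent.H493.PGE8.hp.isCartan
    (CoxeterMatrix.E₈.toCoxeterSystem.wordProd (C8.map Prod.fst)) (sr j) = hd C8 j :=
  fun j => WData.chain_rep Cfsg.Agent.H493.PGE8.hp _ Cfsg.Agent.H493.PGE8.hA chC8 j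

/-- **`E₇(q)`, `p = 7`, `q` of order `3` modulo `7`.** -/
theorem comm_E7_three (ho : orderOf (Fintype.card F : ZMod 7) = 3) (P : Sylow 7 ↥(chevE7.group F)) :
    IsMulCommutative (P : Subgroup ↥(chevE7.group F)) := by
  have := Cfsg.Agent.H493.PGE7.finW
  have h2 := rows_mul Cfsg.Agent.H493.PGE7.hp _ cox7 cox7 p72
  have h3 := rows_mul Cfsg.Agent.H493.PGE7.hp _ cox7 h2 p73
  have h6 := rows_mul Cfsg.Agent.H493.PGE7.hp _ h3 h3 p76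
  exact comm_main Cfsg.Agent.H493.PGE7.hp Cfsg.Agent.H493.PGE7.finW TorusChar.invC_E7 (by norm_num) deg_E7 (by decide)
    h6 ok73 (by decide) (by norm_num)
    (not_dvd_of (by norm_num) ho) ho (dvd_c3 Fintype.card_pos ho) (by decide) (wt7 (by decide)) P

/-- **`E₇(q)`, `p = 7`, `q` of order `6` modulo `7`.** -/
theorem comm_E7_six (ho : orderOf (Fintype.card F : ZMod 7) = 6) (P : Sylow 7 ↥(chevE7.group F)) :
    IsMulCommutative (P : Subgroup ↥(chevE7.group F)) := by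
  have := Cfsg.Agent.H493.PGE7.finW
  have h2 := rows_mul Cfsg.Agent.H493.PGE7.hp _ cox7 cox7 p72
  have h3 := rows_mul Cfsg.Agent.H493.PGE7.hp _ cox7 h2 p73
  exact comm_main Cfsg.Agent.H493.PGE7.hp Cfsg.Agent.H493.PGE7.finW TorusChar.invC_E7 (by norm_num) deg_E7 (by decide)
    h3 ok76 (by decide) (by norm_num)
    (not_dvd_of (by norm_num) ho) ho (dvd_c6 Fintype.card_pos ho) (by decide) (wt7 (by decide)) P

/-- **`E₈(q)`, `p = 7`, `q` of order `3` modulo `7`.** -/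
theorem comm_E8_three (ho : orderOf (Fintype.card F : ZMod 7) = 3) (P : Sylow 7 ↥(chevE8.group F)) :
    IsMulCommutative (P : Subgroup ↥(chevE8.group F)) := by
  have := Cfsg.Agent.H493.PGE8.finW
  have h2 := rows_mul Cfsg.Agent.H493.PGE8.hp _ cox8 cox8 p82
  have h4 := rows_mul Cfsg.Agent.H493.PGE8.hp _ h2 h2 p84
  have h5 := rows_mul Cfsg.Agent.H493.PGE8.hp _ cox8 h4 p85
  have h10 := rows_mul Cfsg.Agent.H493.PGE8.hp _ h5 h5 p810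
  exact comm_main Cfsg.Agent.H493.PGE8.hp Cfsg.Agent.H493.PGE8.finW TorusChar.invC_E8 (by norm_num) deg_E8 (by decide)
    h10 ok83 (by decide) (by norm_num)
    (not_dvd_of (by norm_num) ho) ho (dvd_c3 Fintype.card_pos ho) (by decide) (wt7 (by decide)) P

/-- **`E₈(q)`, `p = 7`, `q` of order `6` modulo `7`.** -/
theorem comm_E8_six (ho : orderOf (Fintype.card F : ZMod 7) = 6) (P : Sylow 7 ↥(chevE8.group F)) :
    IsMulCommutative (P : Subgroup ↥(chevE8.group F)) := by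
  have := Cfsg.Agent.H493.PGE8.finW
  have h2 := rows_mul Cfsg.Agent.H493.PGE8.hp _ cox8 cox8 p82
  have h4 := rows_mul Cfsg.Agent.H493.PGE8.hp _ h2 h2 p84
  have h5 := rows_mul Cfsg.Agent.H493.PGE8.hp _ cox8 h4 p85
  exact comm_main Cfsg.Agent.H493.PGE8.hp Cfsg.Agent.H493.PGE8.finW TorusChar.invC_E8 (by norm_num) deg_E8 (by decide)
    h5 ok86 (by decide) (by norm_num)
    (not_dvd_of (by norm_num) ho) ho (dvd_c6 Fintype.card_pos ho) (by decide) (wt7 (by decide)) P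

/-- **`²E₆(q)`, `p = 5`, `q` of order `4` modulo `5`.** -/
theorem comm_twE6 {K : Type} [Field K] [Fintype K] {q : ℕ} (hq : IsPrimePow q) (hK : Fintype.card K = q ^ 2)
    (ho : orderOf (q : ZMod 5) = 4) (P : Sylow 5 ↥(twistedE6 K q)) :
    IsMulCommutative (P : Subgroup ↥(twistedE6 K q)) := by
  have := Cfsg.Agent.H493.PGE6.finW
  obtain ⟨p, e, hpF, hpk, he, hqe, hk⟩ := Cfsg.Agent.H493.PGE6T.setup hq hK
  have hqe' : (q : ℤ) = ((p ^ e : ℕ) : ℤ) := by rw [hqe]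
  have hℓq := not_dvd_of (by norm_num) ho
  have hℓp : 5 ≠ p := by
    rintro rfl
    exact hℓq (hqe ▸ dvd_pow_self _ he.ne')
  refine comm_of_eig RGDTwE6.hp CoxeterMatrix.E₆.toCoxeterSystem hk he Cfsg.Agent.H493.TwE6Alg.isFrob_tau
    (Cfsg.Agent.H493.TwE6Alg.fr_tau _)
    TorusChar.invC_E6 (by norm_num)
    (Cfsg.Agent.H493.TwE6Alg.embT_injective (algebraMap K (AlgebraicClosure K)) q) (d := Nat.gcd 3 (q + 1))
    (fun y hy => Cfsg.Agent.H493.TwE6Alg.tau_pow _ hqe hq hK hy) (Cfsg.Agent.H493.PGE6T.lin _ chT thT)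
    okT4.1 okT4.2 (fun h => ?_) hℓp (a := padicValNat 5 (q ^ 4 - 1)) ?_ ?_ P
  · have := h.trans (Nat.gcd_dvd_left _ _)
    norm_num at this
  · rw [← hqe']
    exact dvd_c4 hq.pos ho
  · have h1 := fact_le (ℓ := 5) (by decide) hℓq hq.two_le (n := Nat.card ↥(twistedE6 K q)) (N := 36)
      (ds := [2, 10, 6, 8, 18, 12]) (by decide) ?_
    · rw [ho, wt5 (by decide), add_zero] at h1
      exact h1
    · refine ⟨Nat.gcd 3 (q + 1) * ((q ^ 5 - 1) * (q ^ 9 - 1)), ?_⟩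
      have h2 := Cfsg.Agent.S1066.result hq hK
      have h5 : q ^ 10 - 1 = (q ^ 5 + 1) * (q ^ 5 - 1) := by
        rw [← Nat.sq_sub_sq, ← pow_mul]
      have h9 : q ^ 18 - 1 = (q ^ 9 + 1) * (q ^ 9 - 1) := by
        rw [← Nat.sq_sub_sq, ← pow_mul]
      have h3 : pr q [2, 10, 6, 8, 18, 12] =
          (q ^ 2 - 1) * ((q ^ 10 - 1) * ((q ^ 6 - 1) * ((q ^ 8 - 1) * ((q ^ 18 - 1) * ((q ^ 12 - 1) * 1))))) := rfl
      rw [h3, h5, h9]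
      calc _ = q ^ 36 * (q ^ 2 - 1) * (q ^ 5 + 1) * (q ^ 6 - 1) * (q ^ 8 - 1) * (q ^ 9 + 1) * (q ^ 12 - 1) *
            ((q ^ 5 - 1) * (q ^ 9 - 1)) := by ring
        _ = _ := by rw [← h2]; ring

end Main

end Cfsg.Agent.H28.T5TorRows
end
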